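import Mathlib

/-!
A permutation group of degree n with o orbits has at most 2 ^ (n - o) conjugacy classes.

Proof: conjugacy classes are at most the orbits of a point stabiliser by conjugation. These orbits are counted
along the cycle through the point: fixing the next image d costs a factor t (the number of choices of d up to the
current stabiliser) and the number of orbits of the stabiliser grows by at least t - 1.
-/

set_option autoImplicit false

namespace Cfsg.Agent.ClassBound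

open MulAction

variable {α : Type*} [Finite α]

/-- number of orbits of a subgroup of Perm α -/
noncomputable def orbs (H : Subgroup (Equiv.Perm α)) : ℕ :=
  Nat.card (orbitRel.Quotient H α)

/-- conjugation orbit -/
def cl (M : Subgroup (Equiv.Perm α)) (x : Equiv.Perm α) : Set (Equiv.Perm α) :=
  {y | ∃ m ∈ M, y = m * x * m⁻¹}

lemma cl_eq (M : Subgroup (Equiv.Perm α)) (x : Equiv.Perm α) {m : Equiv.Perm α} (hm : m ∈ M) :
    cl M (m * x * m⁻¹) = cl M x := by
  ext y
  constructor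
  · rintro ⟨k, hk, rfl⟩
    exact ⟨k * m, M.mul_mem hk hm, by group⟩
  · rintro ⟨k, hk, rfl⟩
    exact ⟨k * m⁻¹, M.mul_mem hk (M.inv_mem hm), by group⟩

/-- the coset g H -/
def coset (H : Subgroup (Equiv.Perm α)) (g : Equiv.Perm α) : Set (Equiv.Perm α) :=
  {x | g⁻¹ * x ∈ H}

lemma classes_le (H M : Subgroup (Equiv.Perm α)) (hM : M ≤ H) :
    Nat.card (ConjClasses H) ≤ ((cl M) '' coset H 1).ncard := by
  classical
  let r : Set (Equiv.Perm α) → ConjClasses H := fun Z =>
    if h : ∃ x, x ∈ Z ∧ x ∈ H then ConjClasses.mk ⟨h.choose, h.choose_spec.2⟩ else ConjClasses.mk 1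
  rw [← Set.ncard_univ]
  refine le_trans (Set.ncard_le_ncard ?_ (Set.toFinite _)) (Set.ncard_image_le (f := r) (Set.toFinite _))
  intro q _
  obtain ⟨x, rfl⟩ := ConjClasses.mk_surjective q
  refine ⟨cl M x, ⟨x, by show (1 : Equiv.Perm α)⁻¹ * x ∈ H; simpa using x.2, rfl⟩, ?_⟩
  have h : ∃ y, y ∈ cl M x ∧ y ∈ H := ⟨x, ⟨1, M.one_mem, by group⟩, x.2⟩
  simp only [r, dif_pos h]
  obtain ⟨m, hm, hy⟩ := h.choose_spec.1
  refine ConjClasses.mk_eq_mk_iff_isConj.2 (IsConj.symm (isConj_iff.2 ⟨⟨m, hM hm⟩, ?_⟩))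
  exact Subtype.ext hy.symm

lemma normal_coset_le (H : Subgroup (Equiv.Perm α)) (g : Equiv.Perm α)
    (hg : ∀ m ∈ H, g⁻¹ * m * g ∈ H) :
    ((cl H) '' coset H g).ncard ≤ Nat.card (ConjClasses H) := by
  classical
  let tw : H → H := fun m => ⟨g⁻¹ * m * g, hg m m.2⟩
  letI : MulAction H H :=
    { smul := fun m x => tw m * x * m⁻¹
      one_smul := fun x => Subtype.ext (by
        show (g⁻¹ * 1 * g) * (x : Equiv.Perm α) * 1⁻¹ = x
        group)
      mul_smul := fun m k x => Subtype.ext (by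
        show (g⁻¹ * ((m : Equiv.Perm α) * k) * g) * (x : Equiv.Perm α) * ((m : Equiv.Perm α) * k)⁻¹ =
          (g⁻¹ * (m : Equiv.Perm α) * g) *
            ((g⁻¹ * (k : Equiv.Perm α) * g) * x * (k : Equiv.Perm α)⁻¹) * (m : Equiv.Perm α)⁻¹
        group) }
  -- orbits
  have h1 : ((cl H) '' coset H g).ncard ≤ Nat.card (orbitRel.Quotient H H) := by
    rw [← Set.ncard_univ (orbitRel.Quotient H H)]
    refine le_trans (Set.ncard_le_ncard ?_ (Set.toFinite _))
      (Set.ncard_image_le (f := fun q => cl H (g * ((Quotient.out q : H) : Equiv.Perm α))) (Set.toFinite _))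
    rintro _ ⟨x, hx, rfl⟩
    refine ⟨Quotient.mk'' ⟨g⁻¹ * x, hx⟩, Set.mem_univ _, ?_⟩
    obtain ⟨m, hm⟩ := Quotient.mk_out' (s₁ := orbitRel H H) (⟨g⁻¹ * x, hx⟩ : H)
    have hm' : (g⁻¹ * (m : Equiv.Perm α) * g) * (g⁻¹ * x) * (m : Equiv.Perm α)⁻¹ =
        ((Quotient.out (Quotient.mk'' (⟨g⁻¹ * x, hx⟩ : H) : orbitRel.Quotient H H) : H) :
          Equiv.Perm α) :=
      congrArg Subtype.val hm
    show cl H (g * _) = cl H x
    rw [← hm', show g * ((g⁻¹ * (m : Equiv.Perm α) * g) * (g⁻¹ * x) * (m : Equiv.Perm α)⁻¹)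
      = (m : Equiv.Perm α) * x * (m : Equiv.Perm α)⁻¹ by group]
    exact cl_eq H x m.2
  refine h1.trans ?_
  -- Burnside
  have hb : Nat.card ((m : H) × fixedBy H m) = Nat.card (orbitRel.Quotient H H) * Nat.card H := by
    rw [Nat.card_congr (MulAction.sigmaFixedByEquivOrbitsProdGroup H H), Nat.card_prod]
  have hpairs : Nat.card ((m : H) × fixedBy H m) ≤ Nat.card {q : H × H // Commute q.1 q.2} := by
    let base : ∀ m : H, fixedBy H m → H := fun m x => (Nonempty.intro x).some.1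
    refine Nat.card_le_card_of_injective
      (fun z => (⟨(z.1, (base z.1 z.2)⁻¹ * (z.2 : H)), ?_⟩ : {q : H × H // Commute q.1 q.2})) ?_
    · obtain ⟨m, x, hx⟩ := z
      obtain ⟨x0, hx0⟩ := (Nonempty.intro (⟨x, hx⟩ : fixedBy H m)).some
      show Commute m ((Nonempty.intro (⟨x, hx⟩ : fixedBy H m)).some.1⁻¹ * x)
      have h2 : tw m * x * m⁻¹ = x := hx
      have h3 : tw m * (Nonempty.intro (⟨x, hx⟩ : fixedBy H m)).some.1 * m⁻¹ =
          (Nonempty.intro (⟨x, hx⟩ : fixedBy H m)).some.1 :=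
        (Nonempty.intro (⟨x, hx⟩ : fixedBy H m)).some.2
      set b := (Nonempty.intro (⟨x, hx⟩ : fixedBy H m)).some.1
      have hbm : b * m = tw m * b := (mul_inv_eq_iff_eq_mul.1 h3).symm
      have hxm : x * m = tw m * x := (mul_inv_eq_iff_eq_mul.1 h2).symm
      show m * (b⁻¹ * x) = b⁻¹ * x * m
      rw [mul_assoc, hxm]
      apply mul_left_cancel (a := b)
      rw [← mul_assoc, hbm, mul_assoc, mul_inv_cancel_left, mul_inv_cancel_left]
    · rintro ⟨m, x⟩ ⟨m', x'⟩ he
      have h2 := congrArg Subtype.val he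
      obtain rfl : m = m' := congrArg Prod.fst h2
      have h3 := congrArg Prod.snd h2
      simp only [base, mul_right_inj] at h3
      rw [Subtype.ext h3]
  rw [hb, card_comm_eq_card_conjClasses_mul_card] at hpairs
  exact Nat.le_of_mul_le_mul_right hpairs Nat.card_pos

lemma orbs_conj (H K : Subgroup (Equiv.Perm α)) (g : Equiv.Perm α)
    (hK : ∀ x, x ∈ K ↔ g⁻¹ * x * g ∈ H) : orbs K = orbs H := by
  refine (Nat.card_congr (Quotient.congr g ?_)).symm
  intro a b
  constructor
  · rintro ⟨⟨h, hh⟩, rfl⟩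
    refine ⟨⟨g * h * g⁻¹, (hK _).2 (by simpa [mul_assoc] using hh)⟩, ?_⟩
    show (g * h * g⁻¹) (g b) = g (h b)
    simp
  · rintro ⟨⟨k, hk⟩, he⟩
    refine ⟨⟨g⁻¹ * k * g, (hK _).1 hk⟩, ?_⟩
    have he' : k (g b) = g a := he
    show g⁻¹ (k (g b)) = a
    rw [he']
    simp

/-- points y of a K-orbit modulo a subgroup M cost at most the growth of the number of orbits -/
lemma orbs_grow (K M : Subgroup (Equiv.Perm α)) (hMK : M ≤ K) (w : α) :
    Nat.card {q : orbitRel.Quotient M α //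
        (Quotient.mk'' q.out : orbitRel.Quotient K α) = Quotient.mk'' w} + orbs K ≤ orbs M + 1 := by
  classical
  let F : orbitRel.Quotient M α → orbitRel.Quotient K α := fun q => Quotient.mk'' q.out
  have hF : Function.Surjective F := by
    intro u
    induction u using Quotient.inductionOn' with
    | h a =>
      refine ⟨Quotient.mk'' a, ?_⟩
      obtain ⟨m, hm⟩ := Quotient.mk_out' (s₁ := orbitRel M α) a
      exact Quotient.eq''.2 ⟨⟨m, hMK m.2⟩, hm⟩
  let s : orbitRel.Quotient K α → orbitRel.Quotient M α := Function.surjInv hF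
  have hs : ∀ u, F (s u) = u := Function.surjInv_eq hF
  let f : {q : orbitRel.Quotient M α // F q = Quotient.mk'' w} ⊕
      {u : orbitRel.Quotient K α // u ≠ Quotient.mk'' w} → orbitRel.Quotient M α :=
    Sum.elim Subtype.val (fun u => s u.1)
  have hf : Function.Injective f := by
    rintro (q | u) (q' | u') h
    · exact congrArg Sum.inl (Subtype.ext h)
    · exact absurd (by rw [← hs u'.1, ← show (q : _) = s u'.1 from h]; exact q.2) u'.2
    · exact absurd (by rw [← hs u.1, show s u.1 = (q' : _) from h]; exact q'.2) u.2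
    · refine congrArg Sum.inr (Subtype.ext ?_)
      rw [← hs u.1, ← hs u'.1, show s u.1 = s u'.1 from h]
  have h1 := Nat.card_le_card_of_injective f hf
  rw [Nat.card_sum] at h1
  have h2 : Nat.card {u : orbitRel.Quotient K α // u ≠ Quotient.mk'' w} + 1 = orbs K := by
    haveI : Fintype (orbitRel.Quotient K α) := Fintype.ofFinite _
    rw [orbs, Nat.card_eq_fintype_card, Nat.card_eq_fintype_card,
      Fintype.card_subtype_compl, Fintype.card_subtype_eq]
    have : 0 < Fintype.card (orbitRel.Quotient K α) := Fintype.card_pos_iff.2 ⟨Quotient.mk'' w⟩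
    omega
  show Nat.card {q : orbitRel.Quotient M α // F q = Quotient.mk'' w} + orbs K ≤ orbs M + 1
  have h3 : orbs M = Nat.card (orbitRel.Quotient M α) := rfl
  omega

/-- stabiliser of a point inside H -/
def stab (H : Subgroup (Equiv.Perm α)) (c : α) : Subgroup (Equiv.Perm α) :=
  H ⊓ stabilizer (Equiv.Perm α) c

lemma mem_stab {H : Subgroup (Equiv.Perm α)} {c : α} {m : Equiv.Perm α} :
    m ∈ stab H c ↔ m ∈ H ∧ m c = c := Iff.rfl

theorem bound_two_pow : ∀ H : Subgroup (Equiv.Perm α),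
    Nat.card (ConjClasses H) * 2 ^ orbs H ≤ 2 ^ Nat.card α ∧
    ∀ (g : Equiv.Perm α) (c : α), (∀ m ∈ stab H c, g⁻¹ * m * g ∈ H) →
      ((cl (stab H c)) '' coset H g).ncard * 2 ^ orbs H ≤ 2 ^ Nat.card α := by
  classical
  suffices ∀ (N : ℕ) (H : Subgroup (Equiv.Perm α)), Nat.card H = N →
      (Nat.card (ConjClasses H) * 2 ^ orbs H ≤ 2 ^ Nat.card α ∧
      ∀ (g : Equiv.Perm α) (c : α), (∀ m ∈ stab H c, g⁻¹ * m * g ∈ H) →
        ((cl (stab H c)) '' coset H g).ncard * 2 ^ orbs H ≤ 2 ^ Nat.card α) from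
    fun H => this _ H rfl
  intro N
  induction N using Nat.strong_induction_on with
  | _ N IH =>
  intro H hN
  haveI : Fintype α := Fintype.ofFinite α
  have moved : ∀ (g : Equiv.Perm α) (c : α), (∀ m ∈ stab H c, g⁻¹ * m * g ∈ H) →
      (∃ h ∈ H, h c ≠ c) →
      ((cl (stab H c)) '' coset H g).ncard * 2 ^ orbs H ≤ 2 ^ Nat.card α := by
    rintro g c hg ⟨h, hh, hc⟩
    set M := stab H c with hMdef
    have hMH : M ≤ H := inf_le_left
    have hlt : Nat.card M < N := by
      rw [← hN]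
      refine lt_of_le_of_ne (Subgroup.card_le_of_le hMH) (fun he => hc ?_)
      have hMe : M = H := Subgroup.eq_of_le_of_card_ge hMH he.ge
      rw [hMdef] at hMe
      exact (hMe.symm ▸ hh : h ∈ stab H c).2
    let K : Subgroup (Equiv.Perm α) := H.map (MulAut.conj g).toMonoidHom
    have hK : ∀ x, x ∈ K ↔ g⁻¹ * x * g ∈ H := fun x => by
      show x ∈ H.map (MulAut.conj g).toMonoidHom ↔ _
      constructor
      · rintro ⟨y, hy, rfl⟩
        simpa [mul_assoc] using hy
      · intro hx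
        exact ⟨g⁻¹ * x * g, hx, by simp [mul_assoc]⟩
    have hMK : M ≤ K := fun m hm => (hK m).2 (hg m hm)
    let D := {q : orbitRel.Quotient M α //
      (Quotient.mk'' q.out : orbitRel.Quotient K α) = Quotient.mk'' (g c)}
    haveI : Fintype D := Fintype.ofFinite D
    -- a coset element sending c to the representative
    have hreach : ∀ d : D, ∃ x ∈ coset H g, x c = d.1.out := by
      intro d
      obtain ⟨⟨k, hk⟩, hkd⟩ := Quotient.eq''.1 d.2
      refine ⟨k * g, ?_, hkd⟩
      show g⁻¹ * (k * g) ∈ H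
      rw [← mul_assoc]
      exact (hK k).1 hk
    choose xd hxd hxdc using hreach
    let piece : D → Set (Set (Equiv.Perm α)) := fun d =>
      (fun Z : Set (Equiv.Perm α) => {y | ∃ z ∈ Z, y ∈ cl M z}) ''
        ((cl (stab M d.1.out)) '' coset M (xd d))
    have hsub : (cl M) '' coset H g ⊆ ⋃ d ∈ (Finset.univ : Finset D), piece d := by
      rintro _ ⟨x, hx, rfl⟩
      let q : orbitRel.Quotient M α := Quotient.mk'' (x c)
      obtain ⟨m, hm⟩ := Quotient.mk_out' (s₁ := orbitRel M α) (x c)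
      have hxK : (x * g⁻¹) ∈ K := (hK _).2 (by
        rw [show g⁻¹ * (x * g⁻¹) * g = g⁻¹ * x by group]; exact hx)
      have hq : (Quotient.mk'' q.out : orbitRel.Quotient K α) = Quotient.mk'' (g c) := by
        refine Quotient.eq''.2 ⟨⟨(m : Equiv.Perm α) * (x * g⁻¹), K.mul_mem (hMK m.2) hxK⟩, ?_⟩
        show ((m : Equiv.Perm α) * (x * g⁻¹)) (g c) = q.out
        rw [show q.out = (m : Equiv.Perm α) (x c) from hm.symm]
        simp
      rw [Set.mem_iUnion₂]
      refine ⟨⟨q, hq⟩, Finset.mem_univ _, ?_⟩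
      let x' := (m : Equiv.Perm α) * x * (m : Equiv.Perm α)⁻¹
      have hx'c : x' c = q.out := by
        have hmc : (m : Equiv.Perm α)⁻¹ c = c := (M.inv_mem m.2).2
        show ((m : Equiv.Perm α) * x * (m : Equiv.Perm α)⁻¹) c = q.out
        rw [Equiv.Perm.mul_apply, Equiv.Perm.mul_apply, hmc]
        exact hm
      have hx'H : x' ∈ coset H g := by
        show g⁻¹ * ((m : Equiv.Perm α) * x * (m : Equiv.Perm α)⁻¹) ∈ H
        rw [show g⁻¹ * ((m : Equiv.Perm α) * x * (m : Equiv.Perm α)⁻¹) =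
          (g⁻¹ * (m : Equiv.Perm α) * g) * (g⁻¹ * x) * (m : Equiv.Perm α)⁻¹ by group]
        exact H.mul_mem (H.mul_mem (hg m m.2) hx) (H.inv_mem (hMH m.2))
      have hx'M : x' ∈ coset M (xd ⟨q, hq⟩) := by
        show (xd ⟨q, hq⟩)⁻¹ * x' ∈ M
        refine ⟨?_, ?_⟩
        · rw [show (xd ⟨q, hq⟩)⁻¹ * x' = (g⁻¹ * xd ⟨q, hq⟩)⁻¹ * (g⁻¹ * x') by group]
          exact H.mul_mem (H.inv_mem (hxd _)) hx'H
        · show ((xd ⟨q, hq⟩)⁻¹ * x') c = c
          rw [Equiv.Perm.mul_apply, hx'c, Equiv.Perm.inv_eq_iff_eq, hxdc]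
      refine ⟨cl (stab M q.out) x', ⟨x', hx'M, rfl⟩, ?_⟩
      have hm' := cl_eq M x m.2
      ext y
      constructor
      · rintro ⟨z, ⟨k, hk, rfl⟩, hy⟩
        rwa [cl_eq M x' hk.1, hm'] at hy
      · intro hy
        refine ⟨x', ⟨1, Subgroup.one_mem _, by group⟩, ?_⟩
        show y ∈ cl M ((m : Equiv.Perm α) * x * (m : Equiv.Perm α)⁻¹)
        rwa [hm']
    have hpiece : ∀ d : D, (piece d).ncard * 2 ^ orbs M ≤ 2 ^ Nat.card α := by
      intro d
      refine le_trans (Nat.mul_le_mul_right _ (Set.ncard_image_le (Set.toFinite _))) ?_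
      refine (IH _ hlt M rfl).2 (xd d) d.1.out ?_
      intro m hm
      refine ⟨?_, ?_⟩
      · rw [show (xd d)⁻¹ * m * xd d = (g⁻¹ * xd d)⁻¹ * (g⁻¹ * m * g) * (g⁻¹ * xd d) by group]
        exact H.mul_mem (H.mul_mem (H.inv_mem (hxd d)) (hg m hm.1)) (hxd d)
      · show ((xd d)⁻¹ * m * xd d) c = c
        rw [Equiv.Perm.mul_apply, Equiv.Perm.mul_apply, hxdc, show m d.1.out = d.1.out from hm.2,
          ← hxdc d]
        simp
    have hgrow : Nat.card D + orbs H ≤ orbs M + 1 := by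
      have := orbs_grow K M hMK (g c)
      rwa [orbs_conj H K g hK] at this
    have hsum : ((cl M) '' coset H g).ncard * 2 ^ orbs M ≤ Nat.card D * 2 ^ Nat.card α := by
      calc _ ≤ (∑ d : D, (piece d).ncard) * 2 ^ orbs M := Nat.mul_le_mul_right _
            ((Set.ncard_le_ncard hsub (Set.toFinite _)).trans
              (Finset.set_ncard_biUnion_le Finset.univ piece))
        _ = ∑ d : D, (piece d).ncard * 2 ^ orbs M := Finset.sum_mul _ _ _
        _ ≤ ∑ d : D, 2 ^ Nat.card α := Finset.sum_le_sum fun d _ => hpiece d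
        _ = Nat.card D * 2 ^ Nat.card α := by
          rw [Finset.sum_const, Finset.card_univ, smul_eq_mul, Nat.card_eq_fintype_card (α := D)]
    rcases Nat.eq_zero_or_pos (Nat.card D) with h0 | h0
    · rw [h0, zero_mul] at hsum
      have : ((cl M) '' coset H g).ncard = 0 :=
        (Nat.mul_eq_zero.1 (Nat.le_zero.1 hsum)).resolve_right (by positivity)
      rw [this, zero_mul]; exact Nat.zero_le _
    · refine Nat.le_of_mul_le_mul_left ?_ h0
      calc Nat.card D * (((cl M) '' coset H g).ncard * 2 ^ orbs H)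
          ≤ 2 ^ (Nat.card D - 1) * (((cl M) '' coset H g).ncard * 2 ^ orbs H) :=
            Nat.mul_le_mul_right _ (by
              obtain ⟨t, ht⟩ := Nat.exists_eq_add_of_le h0
              rw [ht, Nat.add_sub_cancel_left, add_comm]
              exact Nat.lt_two_pow_self)
        _ = ((cl M) '' coset H g).ncard * 2 ^ (Nat.card D - 1 + orbs H) := by rw [pow_add]; ring
        _ ≤ ((cl M) '' coset H g).ncard * 2 ^ orbs M :=
            Nat.mul_le_mul_left _ (Nat.pow_le_pow_right two_pos (by omega))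
        _ ≤ _ := hsum
  have hA : Nat.card (ConjClasses H) * 2 ^ orbs H ≤ 2 ^ Nat.card α := by
    by_cases hm : ∃ (c : α) (h : Equiv.Perm α), h ∈ H ∧ h c ≠ c
    · obtain ⟨c, h, hh, hc⟩ := hm
      exact le_trans (Nat.mul_le_mul_right _ (classes_le H (stab H c) inf_le_left))
        (moved 1 c (fun m hm => by simpa using hm.1) ⟨h, hh, hc⟩)
    · push Not at hm
      have hbot : H = ⊥ := (Subgroup.eq_bot_iff_forall H).2 fun h hh => Equiv.ext fun c => hm c h hh
      subst hbot
      have h1 : Nat.card (ConjClasses (⊥ : Subgroup (Equiv.Perm α))) ≤ 1 :=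
        (Nat.card_le_card_of_surjective _ ConjClasses.mk_surjective).trans (Subgroup.card_bot).le
      have h2 : orbs (⊥ : Subgroup (Equiv.Perm α)) ≤ Nat.card α :=
        Nat.card_le_card_of_surjective (fun x => Quotient.mk'' x) Quotient.mk''_surjective
      calc _ ≤ 1 * 2 ^ Nat.card α := Nat.mul_le_mul h1 (Nat.pow_le_pow_right two_pos h2)
        _ = _ := one_mul _
  refine ⟨hA, fun g c hg => ?_⟩
  by_cases hc : ∃ h ∈ H, h c ≠ c
  · exact moved g c hg hc
  · push Not at hc
    have hMe : stab H c = H := le_antisymm inf_le_left (fun h hh => ⟨hh, hc h hh⟩)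
    rw [hMe] at hg ⊢
    exact le_trans (Nat.mul_le_mul_right _ (normal_coset_le H g hg)) hA

theorem card_conjClasses_le (H : Subgroup (Equiv.Perm α)) :
    Nat.card (ConjClasses H) ≤ 2 ^ (Nat.card α - 1) := by
  rcases isEmpty_or_nonempty α with hα | ⟨⟨a⟩⟩
  · have hbot : H = ⊥ := (Subgroup.eq_bot_iff_forall H).2 fun h _ => Subsingleton.elim _ _
    subst hbot
    refine (Nat.card_le_card_of_surjective _ ConjClasses.mk_surjective).trans ?_
    rw [Subgroup.card_bot]
    exact Nat.one_le_two_pow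
  · have h := (bound_two_pow H).1
    have h1 : 1 ≤ orbs H := Nat.card_pos_iff.2 ⟨⟨Quotient.mk'' a⟩, inferInstance⟩
    have h2 : 1 ≤ Nat.card α := Nat.card_pos_iff.2 ⟨⟨a⟩, inferInstance⟩
    refine Nat.le_of_mul_le_mul_right ?_ two_pos
    calc Nat.card (ConjClasses H) * 2 ≤ Nat.card (ConjClasses H) * 2 ^ orbs H :=
          Nat.mul_le_mul_left _ (Nat.le_self_pow (by omega) 2)
      _ ≤ 2 ^ Nat.card α := h
      _ = 2 ^ (Nat.card α - 1) * 2 := by rw [← pow_succ, Nat.sub_add_cancel h2]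

end Cfsg.Agent.ClassBound
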