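import Mathlib

/-! Numeric bounds for tuple counts. -/

set_option autoImplicit false

namespace Cfsg.Agent.ClassBound

open Finset

/-- the recursion -/
def recSum (q : ℕ) (f : ℕ → ℕ) (m : ℕ) : ℕ :=
  ∑ e ∈ Icc 2 m, ∑ j ∈ Icc 1 (m / e), (q - 1) * q ^ (j - 1) * f (m - e * j)

/-- the bound for tuples without simple part -/
def noOnesBd (q m : ℕ) : ℕ :=
  if m = 0 then 1 else if m = 1 then 0 else if m ≤ 3 then q - 1 else
    if m = 4 then 2 * q * (q - 1) else q ^ (m - 2)

theorem geom_top (q : ℕ) : ∀ J : ℕ, (q - 1) * ∑ j ∈ Icc 1 J, q ^ j ≤ q ^ (J + 1) := by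
  intro J
  induction J with
  | zero => simp
  | succ J ih =>
    rw [sum_Icc_succ_top (by omega), mul_add, pow_succ q (J + 1)]
    calc (q - 1) * ∑ j ∈ Icc 1 J, q ^ j + (q - 1) * q ^ (J + 1)
        ≤ q ^ (J + 1) + (q - 1) * q ^ (J + 1) := Nat.add_le_add_right ih _
      _ ≤ q ^ (J + 1) * q := by
        rcases Nat.eq_zero_or_pos q with rfl | hq
        · simp
        · have : q = q - 1 + 1 := by omega
          conv_rhs => rw [mul_comm]; arg 1; rw [this]
          rw [add_mul, one_mul, add_comm]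

theorem geom_sub (q : ℕ) : ∀ J : ℕ, ∑ j ∈ Icc 1 J, (q - 1) * q ^ (j - 1) ≤ q ^ J := by
  intro J
  induction J with
  | zero => simp
  | succ J ih =>
    rw [sum_Icc_succ_top (by omega), Nat.add_sub_cancel, pow_succ]
    rcases Nat.eq_zero_or_pos q with rfl | hq
    · simp only [zero_tsub, zero_mul, add_zero] at *
      simp
    · calc ∑ j ∈ Icc 1 J, (q - 1) * q ^ (j - 1) + (q - 1) * q ^ J
          ≤ q ^ J + (q - 1) * q ^ J := Nat.add_le_add_right ih _
        _ = q ^ J * q := by
          obtain ⟨p, rfl⟩ : ∃ p, q = p + 1 := ⟨q - 1, by omega⟩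
          simp only [Nat.add_sub_cancel]; ring

theorem geom_step {q : ℕ} (hq : 1 ≤ q) (i : ℕ) (hi : 1 ≤ i) :
    ∀ M J : ℕ, i * J ≤ M → (q - 1) * q ^ (i - 1) * ∑ j ∈ Icc 1 J, q ^ (M - i * j) ≤ q ^ M := by
  intro M
  induction M using Nat.strong_induction_on with
  | _ M ih =>
    intro J hJ
    cases J with
    | zero => simp
    | succ J =>
      rw [← Finset.insert_Icc_succ_left_eq_Icc (by omega : 1 ≤ J + 1), sum_insert (by simp)]
      have hM : i ≤ M := le_trans (Nat.le_mul_of_pos_right i (Nat.succ_pos J)) hJ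
      have hre : ∑ j ∈ Icc (Order.succ 1) (J + 1), q ^ (M - i * j) =
          ∑ j ∈ Icc 1 J, q ^ ((M - i) - i * j) := by
        refine sum_bij' (fun j _ => j - 1) (fun j _ => j + 1) ?_ ?_ ?_ ?_ ?_
        · intro j hj; simp only [mem_Icc, Order.succ_eq_add_one] at hj ⊢; omega
        · intro j hj; simp only [mem_Icc, Order.succ_eq_add_one] at hj ⊢; omega
        · intro j hj; simp only [mem_Icc, Order.succ_eq_add_one] at hj; omega
        · intro j hj; omega
        · intro j hj
          simp only [mem_Icc, Order.succ_eq_add_one] at hj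
          congr 1
          rw [Nat.mul_sub_one]
          have : i ≤ i * j := Nat.le_mul_of_pos_right i (by omega)
          omega
      rw [hre, mul_one, mul_add]
      have h1 := ih (M - i) (by omega) J (by rw [Nat.mul_succ] at hJ; omega)
      have h2 : (q - 1) * q ^ (i - 1) + 1 ≤ q ^ i := by
        obtain ⟨p, rfl⟩ : ∃ p, q = p + 1 := ⟨q - 1, by omega⟩
        obtain ⟨k, rfl⟩ : ∃ k, i = k + 1 := ⟨i - 1, by omega⟩
        simp only [Nat.add_sub_cancel]
        have := Nat.one_le_pow k (p + 1) (Nat.succ_pos p)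
        rw [pow_succ]
        nlinarith
      calc (q - 1) * q ^ (i - 1) * q ^ (M - i) + (q - 1) * q ^ (i - 1) * ∑ j ∈ Icc 1 J, q ^ (M - i - i * j)
          ≤ ((q - 1) * q ^ (i - 1) + 1) * q ^ (M - i) := by
            rw [add_mul, one_mul]; exact Nat.add_le_add_left h1 _
        _ ≤ q ^ i * q ^ (M - i) := Nat.mul_le_mul_right _ h2
        _ = q ^ M := by rw [← pow_add]; congr 1; omega

theorem tail_le {q : ℕ} (m M : ℕ) :
    ∑ e ∈ Icc 2 m, ∑ j ∈ Icc 1 (m / e), (if e * j = M then (q - 1) * q ^ (j - 1) else 0) ≤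
      q ^ (M / 2) := by
  calc ∑ e ∈ Icc 2 m, ∑ j ∈ Icc 1 (m / e), (if e * j = M then (q - 1) * q ^ (j - 1) else 0)
      ≤ ∑ e ∈ Icc 2 m, ∑ j ∈ Icc 1 m, (if e * j = M then (q - 1) * q ^ (j - 1) else 0) :=
        sum_le_sum fun e _ => sum_le_sum_of_subset fun j hj => by
          simp only [mem_Icc] at hj ⊢
          exact ⟨hj.1, hj.2.trans (Nat.div_le_self _ _)⟩
    _ = ∑ j ∈ Icc 1 m, ∑ e ∈ Icc 2 m, (if e * j = M then (q - 1) * q ^ (j - 1) else 0) := sum_comm
    _ ≤ ∑ j ∈ Icc 1 m, (if j ≤ M / 2 then (q - 1) * q ^ (j - 1) else 0) := by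
      refine sum_le_sum fun j hj => ?_
      simp only [mem_Icc] at hj
      by_cases h : ∃ e ∈ Icc 2 m, e * j = M
      · obtain ⟨e, he, hej⟩ := h
        rw [sum_eq_single_of_mem e he (fun e' _ hne => if_neg fun h' =>
          hne (Nat.eq_of_mul_eq_mul_right hj.1 (h'.trans hej.symm))), if_pos hej, if_pos]
        simp only [mem_Icc] at he
        rw [Nat.le_div_iff_mul_le two_pos, ← hej, mul_comm j 2]
        exact Nat.mul_le_mul_right _ he.1
      · rw [sum_eq_zero fun e he => if_neg fun h' => h ⟨e, he, h'⟩]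
        exact Nat.zero_le _
    _ ≤ ∑ j ∈ Icc 1 (M / 2), (q - 1) * q ^ (j - 1) := by
      rw [← sum_filter]
      exact sum_le_sum_of_subset fun j hj => by
        simp only [mem_filter, mem_Icc] at hj ⊢; exact ⟨hj.1.1, hj.2⟩
    _ ≤ _ := geom_sub q _

theorem main_le {q : ℕ} (hq : 3 ≤ q) {m : ℕ} (hm : 5 ≤ m) :
    2 * ∑ e ∈ Icc 2 m, ∑ j ∈ Icc 1 (m / e),
      (if e * j + 5 ≤ m then (q - 1) * q ^ (m - 3 - (e - 1) * j) else 0) ≤ q ^ (m - 2) := by
  set M := m - 3 with hM
  have hstep : ∀ e ∈ Icc 2 m, ∑ j ∈ Icc 1 (m / e),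
      (if e * j + 5 ≤ m then (q - 1) * q ^ (M - (e - 1) * j) else 0) ≤
        if e ≤ M + 1 then q ^ (M + 2 - e) else 0 := by
    intro e he
    simp only [mem_Icc] at he
    by_cases heM : e ≤ M + 1
    · rw [if_pos heM]
      have h := geom_step (q := q) (by omega) (e - 1) (by omega) M ((M) / (e - 1))
        (Nat.mul_div_le M (e - 1))
      have hle : ∑ j ∈ Icc 1 (m / e), (if e * j + 5 ≤ m then (q - 1) * q ^ (M - (e - 1) * j) else 0) ≤
          (q - 1) * ∑ j ∈ Icc 1 (M / (e - 1)), q ^ (M - (e - 1) * j) := by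
        rw [mul_sum, ← sum_filter]
        refine sum_le_sum_of_subset fun j hj => ?_
        simp only [mem_filter, mem_Icc] at hj ⊢
        refine ⟨hj.1.1, ?_⟩
        rw [Nat.le_div_iff_mul_le (by omega)]
        have : j * (e - 1) ≤ e * j := by rw [mul_comm e j]; exact Nat.mul_le_mul_left _ (by omega)
        omega
      refine hle.trans ?_
      refine Nat.le_of_mul_le_mul_left ?_ (show 0 < q ^ (e - 2) from Nat.pow_pos (by omega))
      rw [show e - 1 - 1 = e - 2 by omega] at h
      rw [← mul_assoc, mul_comm (q ^ (e - 2)) (q - 1), ← pow_add,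
        show e - 2 + (M + 2 - e) = M by omega]
      exact h
    · rw [if_neg heM, sum_eq_zero]
      intro j hj
      simp only [mem_Icc] at hj
      rw [if_neg]
      intro hc
      have : e ≤ e * j := Nat.le_mul_of_pos_right e hj.1
      omega
  refine (Nat.mul_le_mul_left 2 (sum_le_sum hstep)).trans ?_
  have hre : ∑ e ∈ Icc 2 m, (if e ≤ M + 1 then q ^ (M + 2 - e) else 0) ≤ ∑ k ∈ Icc 1 M, q ^ k := by
    rw [← sum_filter]
    refine le_of_eq (sum_bij' (fun e _ => M + 2 - e) (fun k _ => M + 2 - k) ?_ ?_ ?_ ?_ ?_)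
    all_goals intro e he
    all_goals simp only [mem_filter, mem_Icc] at he ⊢
    all_goals omega
  calc 2 * ∑ e ∈ Icc 2 m, (if e ≤ M + 1 then q ^ (M + 2 - e) else 0)
      ≤ (q - 1) * ∑ k ∈ Icc 1 M, q ^ k :=
        Nat.mul_le_mul (by omega) hre
    _ ≤ q ^ (M + 1) := geom_top q M
    _ = q ^ (m - 2) := by congr 1; omega

theorem noOnesBd_rec {q : ℕ} (hq : 3 ≤ q) {m : ℕ} (hm : 2 ≤ m) :
    recSum q (noOnesBd q) m ≤ noOnesBd q m := by
  rcases Nat.lt_or_ge m 9 with h9 | h9
  · obtain ⟨t, rfl⟩ : ∃ t, q = t + 3 := ⟨q - 3, by omega⟩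
    interval_cases m <;>
      simp [recSum, noOnesBd, sum_Icc_succ_top, show t + 3 - 1 = t + 2 by omega] <;> ring_nf <;>
      nlinarith [Nat.zero_le t, Nat.zero_le (t ^ 2), Nat.zero_le (t ^ 3), Nat.zero_le (t ^ 4),
        Nat.zero_le (t ^ 5), Nat.zero_le (t ^ 6)]
  · have hb : noOnesBd q m = q ^ (m - 2) := by
      unfold noOnesBd
      rw [if_neg (by omega), if_neg (by omega), if_neg (by omega), if_neg (by omega)]
    rw [hb]
    have hterm : ∀ e j, 1 ≤ j → 2 ≤ e → e * j ≤ m →
        (q - 1) * q ^ (j - 1) * noOnesBd q (m - e * j) ≤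
          (if e * j + 5 ≤ m then (q - 1) * q ^ (m - 3 - (e - 1) * j) else 0) +
            (2 * q ^ 2 * (if e * j = m - 4 then (q - 1) * q ^ (j - 1) else 0) +
            q * (if e * j = m - 3 then (q - 1) * q ^ (j - 1) else 0) +
            q * (if e * j = m - 2 then (q - 1) * q ^ (j - 1) else 0) +
            (if e * j = m then (q - 1) * q ^ (j - 1) else 0)) := by
      intro e j hj he hle
      by_cases h5 : e * j + 5 ≤ m
      · refine le_trans (le_of_eq ?_) (Nat.le_add_right _ _)
        rw [if_pos h5]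
        unfold noOnesBd
        rw [if_neg (by omega), if_neg (by omega), if_neg (by omega), if_neg (by omega), mul_assoc,
          ← pow_add]
        congr 2
        rw [Nat.sub_one_mul]
        have : j ≤ e * j := Nat.le_mul_of_pos_left j (by omega)
        omega
      · rw [if_neg h5, zero_add]
        generalize hA : (q - 1) * q ^ (j - 1) = A
        have hcases : e * j = m - 4 ∨ e * j = m - 3 ∨ e * j = m - 2 ∨ e * j = m - 1 ∨ e * j = m := by
          omega
        rcases hcases with h | h | h | h | h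
        · have : m - e * j = 4 := by omega
          rw [if_pos h, this]
          have hb4 : noOnesBd q 4 ≤ 2 * q ^ 2 := by
            simp only [noOnesBd]; norm_num
            calc 2 * q * (q - 1) ≤ 2 * q * q := Nat.mul_le_mul_left _ (Nat.sub_le _ _)
              _ = 2 * q ^ 2 := by ring
          calc A * noOnesBd q 4 ≤ A * (2 * q ^ 2) := Nat.mul_le_mul_left _ hb4
            _ = 2 * q ^ 2 * A := mul_comm _ _
            _ ≤ _ := Nat.le_add_right _ _ |>.trans (Nat.le_add_right _ _) |>.trans (Nat.le_add_right _ _)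
        · have : m - e * j = 3 := by omega
          rw [if_pos h, this]
          have hb4 : noOnesBd q 3 ≤ q := by simp [noOnesBd]
          calc A * noOnesBd q 3 ≤ A * q := Nat.mul_le_mul_left _ hb4
            _ = q * A := mul_comm _ _
            _ ≤ _ := Nat.le_add_left _ _ |>.trans (Nat.le_add_right _ _) |>.trans (Nat.le_add_right _ _)
        · have : m - e * j = 2 := by omega
          rw [if_pos h, this]
          have hb4 : noOnesBd q 2 ≤ q := by simp [noOnesBd]
          calc A * noOnesBd q 2 ≤ A * q := Nat.mul_le_mul_left _ hb4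
            _ = q * A := mul_comm _ _
            _ ≤ _ := Nat.le_add_left _ _ |>.trans (Nat.le_add_right _ _)
        · have : m - e * j = 1 := by omega
          simp [this, noOnesBd]
        · have : m - e * j = 0 := by omega
          rw [if_pos h, this]
          calc A * noOnesBd q 0 = A := by simp [noOnesBd]
            _ ≤ _ := Nat.le_add_left _ _
    have hsum : recSum q (noOnesBd q) m ≤
        (∑ e ∈ Icc 2 m, ∑ j ∈ Icc 1 (m / e),
          (if e * j + 5 ≤ m then (q - 1) * q ^ (m - 3 - (e - 1) * j) else 0)) +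
        (2 * q ^ 2 * q ^ ((m - 4) / 2) + q * q ^ ((m - 3) / 2) + q * q ^ ((m - 2) / 2) + q ^ (m / 2)) := by
      refine (sum_le_sum fun e he => sum_le_sum fun j hj => hterm e j (mem_Icc.1 hj).1 (mem_Icc.1 he).1
        (by
          have := Nat.mul_le_mul_left e (mem_Icc.1 hj).2
          exact this.trans (Nat.mul_div_le m e))).trans ?_
      simp only [sum_add_distrib, ← mul_sum]
      gcongr <;> exact tail_le m _
    refine hsum.trans ?_
    have hmain := main_le hq (show 5 ≤ m by omega)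
    have ht : 2 * (2 * q ^ 2 * q ^ ((m - 4) / 2) + q * q ^ ((m - 3) / 2) + q * q ^ ((m - 2) / 2) +
        q ^ (m / 2)) ≤ q ^ (m - 2) := by
      have h1 : 2 * q ^ 2 * q ^ ((m - 4) / 2) = 2 * q ^ (m / 2) := by
        rw [mul_assoc, ← pow_add]; congr 2; omega
      have h2 : q * q ^ ((m - 3) / 2) ≤ q ^ (m / 2) := by
        rw [← pow_succ']; exact Nat.pow_le_pow_right (by omega) (by omega)
      have h3 : q * q ^ ((m - 2) / 2) = q ^ (m / 2) := by
        rw [← pow_succ']; congr 1; omega
      have h4 : 10 * q ^ (m / 2) ≤ q ^ (m - 2) := by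
        calc 10 * q ^ (m / 2) ≤ q ^ 3 * q ^ (m / 2) :=
              Nat.mul_le_mul_right _ (le_trans (by norm_num) (Nat.pow_le_pow_left hq 3))
          _ ≤ _ := by rw [← pow_add]; exact Nat.pow_le_pow_right (by omega) (by omega)
      omega
    omega

end Cfsg.Agent.ClassBound
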