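import Cfsg.Agent.ClassBound.SLClasses
import Cfsg.Agent.ClassBound.Numeric
import Cfsg.Agent.Lib.GLSemisimple.Count

/-!
The number of classes of `SL_n(q)` is at most `q^(n-1) + 3 q^(n-2)` for `n ≥ 3`, and `q + 4` for
`n = 2`.
-/

set_option autoImplicit false

namespace Cfsg.Agent.ClassBound

open Polynomial Finset Cfsg.Agent.GLSemi

universe u

variable {F : Type u} [Field F]

/-- tuples without a part of exponent one -/
def NoOnes (F : Type u) [Field F] (K m : ℕ) : Set (Fin K → F[X]) :=
  {t | t ∈ TupSet F K m ∧ ∀ i : Fin K, (i : ℕ) = 0 → (t i).natDegree = 0}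

variable [Fintype F]

instance finite_noOnes (K m : ℕ) : Finite (NoOnes F K m) :=
  haveI := (tup_bound (F := F) K m).1
  Finite.of_injective (fun t : NoOnes F K m => (⟨t.1, t.2.1⟩ : TupSet F K m))
    fun _ _ h => Subtype.ext (by simpa using h)

instance finite_monicNe (j : ℕ) [NeZero j] :
    Finite {P : F[X] // P.Monic ∧ P.natDegree = j ∧ P.coeff 0 ≠ 0} := by
  refine Nat.finite_of_card_ne_zero ?_
  rw [card_monic_const_ne_zero (Nat.pos_of_ne_zero (NeZero.ne j))]
  have := Fintype.one_lt_card (α := F)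
  exact Nat.mul_ne_zero (by omega) (pow_ne_zero _ (by omega))

theorem card_noOnes_le_rec (K : ℕ) {m : ℕ} (hm : 2 ≤ m) :
    Nat.card (NoOnes F K m) ≤ recSum (Fintype.card F) (fun r => Nat.card (NoOnes F K r)) m := by
  classical
  set S := (Icc 2 m).sigma fun e => Icc 1 (m / e) with hS
  haveI : ∀ p : S, NeZero p.1.2 := fun p => ⟨by
    have := (mem_Icc.1 (mem_sigma.1 p.2).2).1
    omega⟩
  have hkey : ∀ t : NoOnes F K m, ∃ (p : S) (k : Fin K)
      (P : {P : F[X] // P.Monic ∧ P.natDegree = p.1.2 ∧ P.coeff 0 ≠ 0})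
      (r : NoOnes F K (m - p.1.1 * p.1.2)), (k : ℕ) + 1 = p.1.1 ∧ Function.update r.1 k P.1 = t.1 := by
    rintro ⟨t, ⟨ht, hs⟩, hz⟩
    obtain ⟨k, hk⟩ : ∃ k, 0 < (t k).natDegree := by
      by_contra hc
      push Not at hc
      rw [sum_eq_zero fun k _ => by rw [Nat.le_zero.1 (hc k), mul_zero]] at hs
      omega
    have hk0 : (k : ℕ) ≠ 0 := fun h => by rw [hz k h] at hk; exact lt_irrefl _ hk
    have hle : ((k : ℕ) + 1) * (t k).natDegree ≤ m :=
      hs ▸ single_le_sum (f := fun i : Fin K => ((i : ℕ) + 1) * (t i).natDegree)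
        (fun i _ => Nat.zero_le _) (mem_univ k)
    refine ⟨⟨⟨(k : ℕ) + 1, (t k).natDegree⟩, mem_sigma.2 ⟨mem_Icc.2 ⟨show 2 ≤ (k : ℕ) + 1 by omega, ?_⟩,
      mem_Icc.2 ⟨hk, ?_⟩⟩⟩, k, ⟨t k, (ht k).1, rfl, (ht k).2⟩,
      ⟨Function.update t k 1, ⟨fun i => ?_, ?_⟩, fun i hi => ?_⟩, rfl, ?_⟩
    · exact (Nat.le_mul_of_pos_right _ hk).trans hle
    · show (t k).natDegree ≤ m / ((k : ℕ) + 1)
      rw [Nat.le_div_iff_mul_le (Nat.succ_pos _), mul_comm]
      exact hle
    · by_cases h : i = k
      · subst h; rw [Function.update_self]; simp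
      · rw [Function.update_of_ne h]; exact ht i
    · show _ = m - ((k : ℕ) + 1) * (t k).natDegree
      refine (Nat.sub_eq_of_eq_add ?_).symm
      rw [← hs, ← add_sum_erase _ _ (mem_univ k), ← add_sum_erase _ (fun i : Fin K =>
        ((i : ℕ) + 1) * (Function.update t k (1 : F[X]) i).natDegree) (mem_univ k), Function.update_self,
        natDegree_one, mul_zero, zero_add, add_comm]
      congr 1
      refine sum_congr rfl fun i hi => ?_
      rw [Function.update_of_ne (ne_of_mem_erase hi)]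
    · rw [Function.update_of_ne (by rintro rfl; exact hk0 hi)]
      exact hz i hi
    · show Function.update (Function.update t k 1) k (t k) = t
      rw [Function.update_idem, Function.update_eq_self]
  choose p k P r hp hupd using hkey
  let f : NoOnes F K m → Σ p : S,
      {P : F[X] // P.Monic ∧ P.natDegree = p.1.2 ∧ P.coeff 0 ≠ 0} × NoOnes F K (m - p.1.1 * p.1.2) :=
    fun t => ⟨p t, P t, r t⟩
  have hf : Function.Injective f := by
    intro t t' h
    have hgen : ∀ (p p' : S) (k k' : Fin K)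
        (a : {P : F[X] // P.Monic ∧ P.natDegree = p.1.2 ∧ P.coeff 0 ≠ 0} × NoOnes F K (m - p.1.1 * p.1.2))
        (a' : {P : F[X] // P.Monic ∧ P.natDegree = p'.1.2 ∧ P.coeff 0 ≠ 0} × NoOnes F K (m - p'.1.1 * p'.1.2)),
        (k : ℕ) + 1 = p.1.1 → (k' : ℕ) + 1 = p'.1.1 →
        (⟨p, a⟩ : Σ p : S,
          {P : F[X] // P.Monic ∧ P.natDegree = p.1.2 ∧ P.coeff 0 ≠ 0} × NoOnes F K (m - p.1.1 * p.1.2)) = ⟨p', a'⟩ →
        Function.update a.2.1 k a.1.1 = Function.update a'.2.1 k' a'.1.1 := by
      intro p p' k k' a a' hk hk' h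
      obtain ⟨rfl, h2⟩ := Sigma.mk.inj h
      rw [eq_of_heq h2, Fin.ext (show (k : ℕ) = k' by omega)]
    exact Subtype.ext ((hupd t).symm.trans ((hgen _ _ _ _ _ _ (hp t) (hp t') h).trans (hupd t')))
  refine (Nat.card_le_card_of_injective f hf).trans (le_of_eq ?_)
  rw [Nat.card_sigma, recSum, Finset.sum_sigma']
  rw [← Finset.sum_coe_sort S]
  refine Finset.sum_congr rfl fun q _ => ?_
  rw [Nat.card_prod, card_monic_const_ne_zero (mem_Icc.1 (mem_sigma.1 q.2).2).1]

theorem card_noOnes_le (hq : 3 ≤ Fintype.card F) (K : ℕ) :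
    ∀ m, Nat.card (NoOnes F K m) ≤ noOnesBd (Fintype.card F) m := by
  intro m
  induction m using Nat.strong_induction_on with
  | _ m ih =>
    rcases Nat.lt_or_ge m 2 with h | h
    · interval_cases m
      · haveI : Subsingleton (NoOnes F K 0) := ⟨fun a b => Subtype.ext (funext fun i => by
          have ha := (sum_eq_zero_iff.1 a.2.1.2) i (mem_univ _)
          have hb := (sum_eq_zero_iff.1 b.2.1.2) i (mem_univ _)
          rw [mul_eq_zero] at ha hb
          rw [(a.2.1.1 i).1.natDegree_eq_zero.1 (ha.resolve_left (Nat.succ_ne_zero _)),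
            (b.2.1.1 i).1.natDegree_eq_zero.1 (hb.resolve_left (Nat.succ_ne_zero _))])⟩
        simpa [noOnesBd] using Finite.card_le_one_iff_subsingleton.2 this
      · haveI : IsEmpty (NoOnes F K 1) := ⟨fun ⟨t, ⟨_, hs⟩, hz⟩ => by
          rw [sum_eq_zero] at hs
          · omega
          intro i _
          by_cases hi : (i : ℕ) = 0
          · rw [hz i hi, mul_zero]
          · by_contra hne
            have h1 : ((i : ℕ) + 1) * (t i).natDegree ≤ 1 :=
              hs ▸ single_le_sum (f := fun i : Fin K => ((i : ℕ) + 1) * (t i).natDegree)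
                (fun i _ => Nat.zero_le _) (mem_univ i)
            rcases Nat.eq_zero_or_pos (t i).natDegree with h0 | h0
            · rw [h0, mul_zero] at hne; exact hne rfl
            · have := Nat.le_mul_of_pos_right ((i : ℕ) + 1) h0
              omega⟩
        simp [noOnesBd]
    · refine (card_noOnes_le_rec K h).trans (le_trans ?_ (noOnesBd_rec hq h))
      refine sum_le_sum fun e he => sum_le_sum fun j hj => Nat.mul_le_mul_left _ (ih _ ?_)
      have := Nat.mul_le_mul (mem_Icc.1 he).1 (mem_Icc.1 hj).1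
      omega

/-- roots of `x^k = a` in the units -/
theorem card_pow_eq_le (k : ℕ) (a : F) :
    Nat.card {c : Fˣ // (c : F) ^ k = a} ≤ Nat.gcd (Fintype.card F - 1) k := by
  classical
  rcases isEmpty_or_nonempty {c : Fˣ // (c : F) ^ k = a} with h | ⟨⟨c0⟩⟩
  · simp
  let f : {c : Fˣ // (c : F) ^ k = a} → (powMonoidHom k : Fˣ →* Fˣ).ker := fun c =>
    ⟨c.1 / c0.1, by
      rw [MonoidHom.mem_ker, powMonoidHom_apply, div_pow, div_eq_one]
      exact Units.ext (by simp [c.2, c0.2])⟩
  refine (Nat.card_le_card_of_injective f fun c d h => Subtype.ext ?_).trans (le_of_eq ?_)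
  · exact div_left_injective (congrArg Subtype.val h)
  · rw [IsCyclic.card_powMonoidHom_ker, Nat.card_eq_fintype_card, Fintype.card_units]

theorem card_detOne_le {n : ℕ} (hn : 0 < n) :
    (Fintype.card F - 1) * Nat.card (DetOne F n) ≤
      Fintype.card F ^ n + (Fintype.card F - 2) * Nat.card (NoOnes F n n) := by
  classical
  haveI := (tup_bound (F := F) n n).1
  let i0 : Fin n := ⟨0, hn⟩
  let A : Type u := {t : DetOne F n // 0 < (t.1 i0).natDegree}
  let B : Type u := {t : DetOne F n // ¬ 0 < (t.1 i0).natDegree}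
  have hAB : Nat.card (DetOne F n) = Nat.card A + Nat.card B := by
    rw [← Nat.card_sum]
    exact Nat.card_congr (Equiv.sumCompl _).symm
  have hB : Nat.card B ≤ Nat.card (NoOnes F n n) :=
    Nat.card_le_card_of_injective (fun t : B => (⟨t.1.1, t.1.2.1, fun i hi => by
      rw [show i = i0 from Fin.ext hi]
      have := t.2
      omega⟩ : NoOnes F n n)) fun a b h => Subtype.ext (Subtype.ext (congrArg (fun x : NoOnes F n n => x.1) h))
  let g : (Fˣ × A) ⊕ NoOnes F n n → TupSet F n n := Sum.elim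
    (fun z => ⟨Function.update z.2.1.1 i0 (z.2.1.1 i0 + C (((z.1 : F) - 1) * (z.2.1.1 i0).coeff 0)), by
      refine ⟨fun i => ?_, ?_⟩
      · by_cases h : i = i0
        · subst h
          rw [Function.update_self]
          refine ⟨(z.2.1.2.1.1 i0).1.add_of_left ((degree_C_le).trans_lt
            (natDegree_pos_iff_degree_pos.1 z.2.2)), ?_⟩
          rw [coeff_add, coeff_C_zero, sub_mul, one_mul, add_sub_cancel]
          exact mul_ne_zero z.1.ne_zero (z.2.1.2.1.1 i0).2
        · rw [Function.update_of_ne h]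
          exact z.2.1.2.1.1 i
      · refine Eq.trans (sum_congr rfl fun i _ => ?_) z.2.1.2.1.2
        by_cases h : i = i0
        · subst h
          rw [Function.update_self, natDegree_add_C]
        · rw [Function.update_of_ne h]⟩)
    (fun t => ⟨t.1, t.2.1⟩)
  have hg : Function.Injective g := by
    have hprod : ∀ (c : Fˣ) (a : A), constProd (g (Sum.inl (c, a))).1 = (c : F) * (-1) ^ n := by
      intro c a
      rw [← a.1.2.2]
      simp only [constProd, g, Sum.elim_inl]
      rw [← mul_prod_erase univ _ (mem_univ i0), ← mul_prod_erase univ _ (mem_univ i0),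
        Function.update_self, coeff_add, coeff_C_zero, sub_mul, one_mul, add_sub_cancel]
      rw [prod_congr rfl (g := fun k : Fin n => (a.1.1 k).coeff 0 ^ ((k : ℕ) + 1)) fun k hk => by
        rw [Function.update_of_ne (ne_of_mem_erase hk)]]
      simp [i0, mul_assoc]
    rintro (⟨c, a⟩ | t) (⟨c', a'⟩ | t') h
    · have hc : c = c' := by
        have h1 := congrArg (fun x : TupSet F n n => constProd x.1) h
        simp only [hprod] at h1
        exact Units.ext (mul_right_cancel₀ (pow_ne_zero n (neg_ne_zero.2 one_ne_zero)) h1)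
      subst hc
      have h2 := congrArg Subtype.val h
      simp only [g, Sum.elim_inl] at h2
      refine congrArg Sum.inl (Prod.ext rfl (Subtype.ext (Subtype.ext (funext fun i => ?_))))
      have h3 := congrFun h2 i
      by_cases hi : i = i0
      · subst hi
        rw [Function.update_self, Function.update_self] at h3
        have h4 := congrArg (fun p : F[X] => p.coeff 0) h3
        simp only [coeff_add, coeff_C_zero, sub_mul, one_mul, add_sub_cancel] at h4
        rw [mul_left_cancel₀ c.ne_zero h4] at h3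
        exact add_right_cancel h3
      · rwa [Function.update_of_ne hi, Function.update_of_ne hi] at h3
    · exfalso
      have h3 := congrArg (fun x : TupSet F n n => (x.1 i0).natDegree) h
      simp only [g, Sum.elim_inl, Sum.elim_inr, Function.update_self, natDegree_add_C] at h3
      have := a.2
      rw [h3, t'.2.2 i0 rfl] at this
      omega
    · exfalso
      have h3 := congrArg (fun x : TupSet F n n => (x.1 i0).natDegree) h
      simp only [g, Sum.elim_inl, Sum.elim_inr, Function.update_self, natDegree_add_C] at h3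
      have := a'.2
      rw [← h3, t.2.2 i0 rfl] at this
      omega
    · exact congrArg Sum.inr (Subtype.ext (by simpa [g] using h))
  have hle := (Nat.card_le_card_of_injective g hg).trans (card_tupSet_le hn)
  rw [Nat.card_sum, Nat.card_prod, Nat.card_eq_fintype_card (α := Fˣ), Fintype.card_units] at hle
  rw [hAB, mul_add]
  have h1 := Nat.mul_le_mul_left (Fintype.card F - 1) hB
  have h2 : (Fintype.card F - 1) * Nat.card (NoOnes F n n) =
      Nat.card (NoOnes F n n) + (Fintype.card F - 2) * Nat.card (NoOnes F n n) := by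
    have := Fintype.one_lt_card (α := F)
    rw [show Fintype.card F - 1 = Fintype.card F - 2 + 1 by omega, add_mul, one_mul, add_comm]
  omega

/-- the classes of `SL` in terms of the divisibility sets -/
theorem card_classes_le_sum {n : ℕ} (hn : 0 < n) :
    Nat.card (ConjClasses (Matrix.SpecialLinearGroup (Fin n) F)) ≤
      ∑ d ∈ (Icc 1 n).filter (fun d => d ∣ Fintype.card F - 1),
        d.totient * Nat.card {t : DetOne F n // ∀ k, 0 < (t.1 k).natDegree → d ∣ (k : ℕ) + 1} := by
  haveI := Fintype.ofFinite (DetOne F n)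
  exact card_conjClasses_SL_le.trans (sum_weight_eq hn).le

theorem card_divisible_eq_zero {n d : ℕ} (h : ¬ d ∣ n) :
    Nat.card {t : DetOne F n // ∀ k, 0 < (t.1 k).natDegree → d ∣ (k : ℕ) + 1} = 0 := by
  haveI : IsEmpty {t : DetOne F n // ∀ k, 0 < (t.1 k).natDegree → d ∣ (k : ℕ) + 1} := ⟨fun t => h (by
    conv_rhs => rw [← t.1.2.1.2]
    refine dvd_sum fun k _ => ?_
    rcases Nat.eq_zero_or_pos (t.1.1 k).natDegree with h0 | h0
    · rw [h0, mul_zero]; exact dvd_zero _
    · exact (t.2 k h0).mul_right _)⟩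
  exact Nat.card_of_isEmpty

theorem card_divisible_le_pow {n d : ℕ} (hd : 0 < d) (hdn : d ≤ n) :
    Nat.card {t : DetOne F n // ∀ k, 0 < (t.1 k).natDegree → d ∣ (k : ℕ) + 1} ≤
      Fintype.card F ^ (n / d) := by
  haveI := (tup_bound (F := F) (n / d) (n / d)).1
  exact (card_divisible_le hd).trans ((Finite.card_subtype_le _).trans
    (card_tupSet_le (Nat.div_pos hdn hd)))

/-- tuples of weight one -/
theorem card_tup_one_le (d : ℕ) (a : F) [Finite (TupSet F 1 1)] :
    Nat.card {b : TupSet F 1 1 // constProd b.1 ^ d = a} ≤ Nat.gcd (Fintype.card F - 1) d := by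
  refine le_trans (Nat.card_le_card_of_injective
    (fun b : {b : TupSet F 1 1 // constProd b.1 ^ d = a} =>
      (⟨Units.mk0 _ (b.1.2.1 0).2, by simpa [constProd] using b.2⟩ : {c : Fˣ // (c : F) ^ d = a}))
    fun b b' h => Subtype.ext (Subtype.ext (funext fun i => ?_))) (card_pow_eq_le d a)
  have hb := b.1.2.2
  have hb' := b'.1.2.2
  simp only [Fin.sum_univ_one, Fin.val_zero, zero_add, one_mul] at hb hb'
  rw [Subsingleton.elim i 0, (b.1.2.1 0).1.eq_X_add_C hb, (b'.1.2.1 0).1.eq_X_add_C hb']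
  simpa using h

/-- monic polynomials with prescribed constant power -/
theorem card_monic_pow_le {j : ℕ} (hj : 1 ≤ j) (k : ℕ) (a : F) :
    Finite {P : F[X] // P.Monic ∧ P.natDegree = j ∧ P.coeff 0 ≠ 0 ∧ P.coeff 0 ^ k = a} ∧
    Nat.card {P : F[X] // P.Monic ∧ P.natDegree = j ∧ P.coeff 0 ≠ 0 ∧ P.coeff 0 ^ k = a} ≤
      Nat.gcd (Fintype.card F - 1) k * Fintype.card F ^ (j - 1) := by
  classical
  obtain ⟨i, rfl⟩ : ∃ i, j = i + 1 := ⟨j - 1, by omega⟩
  let e := monicConstEquiv (F := F) i (fun x => x ≠ 0 ∧ x ^ k = a)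
  refine ⟨Finite.of_equiv _ e.symm, ?_⟩
  rw [Nat.card_congr e, Nat.card_prod, Nat.card_eq_fintype_card (α := Fin i → F), Fintype.card_fun,
    Fintype.card_fin, Nat.add_sub_cancel]
  refine Nat.mul_le_mul_right _ (le_trans ?_ (card_pow_eq_le k a))
  exact Nat.card_le_card_of_injective (fun x => ⟨Units.mk0 x.1 x.2.1, x.2.2⟩) fun x y h =>
    Subtype.ext (congrArg (fun z : {c : Fˣ // (c : F) ^ k = a} => ((z.1 : Fˣ) : F)) h)

theorem exists_X_add_C {P : F[X]} (hP : P.Monic) (h0 : P.coeff 0 ≠ 0) (hd : P.natDegree = 1) :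
    ∃ c : Fˣ, X + C (c : F) = P :=
  ⟨Units.mk0 _ h0, (hP.eq_X_add_C hd).symm⟩

theorem card_detOne_two : Nat.card (DetOne F 2) ≤ Fintype.card F + Nat.gcd (Fintype.card F - 1) 2 := by
  classical
  obtain ⟨hf, hc⟩ := card_monic_pow_le (F := F) (j := 2) (by norm_num) 1 ((-1) ^ 2)
  let f : {P : F[X] // P.Monic ∧ P.natDegree = 2 ∧ P.coeff 0 ≠ 0 ∧ P.coeff 0 ^ 1 = (-1) ^ 2} ⊕
      {c : Fˣ // (c : F) ^ 2 = (-1) ^ 2} → (Fin 2 → F[X]) :=
    Sum.elim (fun P => ![P.1, 1]) (fun c => ![1, X + C (c.1 : F)])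
  have hsub : DetOne F 2 ⊆ Set.range f := by
    rintro t ⟨⟨ht, hs⟩, hp⟩
    simp only [Fin.sum_univ_two, Fin.val_zero, Fin.val_one] at hs
    simp only [constProd, Fin.prod_univ_two, Fin.val_zero, Fin.val_one] at hp
    rcases (show (t 1).natDegree = 0 ∨ ((t 1).natDegree = 1 ∧ (t 0).natDegree = 0) by omega) with h | ⟨h, h'⟩
    · have e1 := (ht 1).1.natDegree_eq_zero.1 h
      refine ⟨Sum.inl ⟨t 0, (ht 0).1, by omega, (ht 0).2, by simpa [e1] using hp⟩, funext fun i => ?_⟩
      fin_cases i <;> simp [f, e1]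
    · have e0 := (ht 0).1.natDegree_eq_zero.1 h'
      obtain ⟨c, hc⟩ := exists_X_add_C (ht 1).1 (ht 1).2 h
      refine ⟨Sum.inr ⟨c, by simpa [e0, ← hc] using hp⟩, funext fun i => ?_⟩
      fin_cases i <;> simp [f, e0, hc]
  refine (Nat.card_mono (Set.finite_range f) hsub).trans ((Finite.card_range_le f).trans ?_)
  rw [Nat.card_sum]
  refine Nat.add_le_add (hc.trans ?_) (card_pow_eq_le 2 _)
  simp

theorem card_detOne_three :
    Nat.card (DetOne F 3) ≤ Fintype.card F ^ 2 + (Fintype.card F - 1) + Nat.gcd (Fintype.card F - 1) 3 := by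
  classical
  obtain ⟨hf, hc⟩ := card_monic_pow_le (F := F) (j := 3) (by norm_num) 1 ((-1) ^ 3)
  let f : {P : F[X] // P.Monic ∧ P.natDegree = 3 ∧ P.coeff 0 ≠ 0 ∧ P.coeff 0 ^ 1 = (-1) ^ 3} ⊕ Fˣ ⊕
      {c : Fˣ // (c : F) ^ 3 = (-1) ^ 3} → (Fin 3 → F[X]) :=
    Sum.elim (fun P => ![P.1, 1, 1]) (Sum.elim
      (fun c => ![X + C ((-1) ^ 3 / (c : F) ^ 2), X + C (c : F), 1]) (fun c => ![1, 1, X + C (c.1 : F)]))
  have hsub : DetOne F 3 ⊆ Set.range f := by
    rintro t ⟨⟨ht, hs⟩, hp⟩
    simp only [Fin.sum_univ_three, Fin.val_zero, Fin.val_one, Fin.val_two] at hs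
    simp only [constProd, Fin.prod_univ_three, Fin.val_zero, Fin.val_one, Fin.val_two] at hp
    have one : ∀ i, (t i).natDegree = 0 → t i = 1 := fun i h => (ht i).1.natDegree_eq_zero.1 h
    rcases (show ((t 0).natDegree = 3 ∧ (t 1).natDegree = 0 ∧ (t 2).natDegree = 0) ∨
        ((t 0).natDegree = 1 ∧ (t 1).natDegree = 1 ∧ (t 2).natDegree = 0) ∨
        ((t 0).natDegree = 0 ∧ (t 1).natDegree = 0 ∧ (t 2).natDegree = 1) by omega)
      with ⟨a, b, c⟩ | ⟨a, b, c⟩ | ⟨a, b, c⟩
    · refine ⟨Sum.inl ⟨t 0, (ht 0).1, a, (ht 0).2, by simpa [one 1 b, one 2 c] using hp⟩,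
        funext fun i => ?_⟩
      fin_cases i <;> simp [f, one 1 b, one 2 c]
    · obtain ⟨y, hy⟩ := exists_X_add_C (ht 1).1 (ht 1).2 b
      have hp' : (t 0).coeff 0 * (y : F) ^ 2 = (-1) ^ 3 := by simpa [one 2 c, ← hy] using hp
      have e0 : t 0 = X + C ((-1) ^ 3 / (y : F) ^ 2) := by
        rw [← hp', mul_div_cancel_right₀ _ (pow_ne_zero 2 y.ne_zero)]
        exact (ht 0).1.eq_X_add_C a
      refine ⟨Sum.inr (Sum.inl y), funext fun i => ?_⟩
      fin_cases i
      · simp [f, e0]
      · simp [f, hy]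
      · simp [f, one 2 c]
    · obtain ⟨y, hy⟩ := exists_X_add_C (ht 2).1 (ht 2).2 c
      refine ⟨Sum.inr (Sum.inr ⟨y, by simpa [one 0 a, one 1 b, ← hy] using hp⟩), funext fun i => ?_⟩
      fin_cases i <;> simp [f, one 0 a, one 1 b, hy]
  refine (Nat.card_mono (Set.finite_range f) hsub).trans ((Finite.card_range_le f).trans ?_)
  rw [Nat.card_sum, Nat.card_sum, Nat.card_eq_fintype_card (α := Fˣ), Fintype.card_units, add_assoc]
  refine Nat.add_le_add (hc.trans ?_) (Nat.add_le_add_left (card_pow_eq_le 3 _) _)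
  simp

theorem card_detOne_four :
    Nat.card (DetOne F 4) ≤ Fintype.card F ^ 3 + (Fintype.card F - 1) * Fintype.card F +
      (Fintype.card F - 1) + Nat.gcd (Fintype.card F - 1) 2 * Fintype.card F +
      Nat.gcd (Fintype.card F - 1) 4 := by
  classical
  obtain ⟨hf4, hc4⟩ := card_monic_pow_le (F := F) (j := 4) (by norm_num) 1 ((-1) ^ 4)
  obtain ⟨hf2, hc2⟩ := card_monic_pow_le (F := F) (j := 2) (by norm_num) 2 ((-1) ^ 4)
  let f : {P : F[X] // P.Monic ∧ P.natDegree = 4 ∧ P.coeff 0 ≠ 0 ∧ P.coeff 0 ^ 1 = (-1) ^ 4} ⊕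
      (Fˣ × F) ⊕ Fˣ ⊕
      {P : F[X] // P.Monic ∧ P.natDegree = 2 ∧ P.coeff 0 ≠ 0 ∧ P.coeff 0 ^ 2 = (-1) ^ 4} ⊕
      {c : Fˣ // (c : F) ^ 4 = (-1) ^ 4} → (Fin 4 → F[X]) :=
    Sum.elim (fun P => ![P.1, 1, 1, 1]) <| Sum.elim
      (fun z => ![X ^ 2 + C z.2 * X + C ((-1) ^ 4 / (z.1 : F) ^ 2), X + C (z.1 : F), 1, 1]) <| Sum.elim
      (fun c => ![X + C ((-1) ^ 4 / (c : F) ^ 3), 1, X + C (c : F), 1]) <| Sum.elim
      (fun P => ![1, P.1, 1, 1]) (fun c => ![1, 1, 1, X + C (c.1 : F)])
  have hsub : DetOne F 4 ⊆ Set.range f := by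
    rintro t ⟨⟨ht, hs⟩, hp⟩
    have v3 : ((3 : Fin 4) : ℕ) = 3 := rfl
    simp only [Fin.sum_univ_four, Fin.val_zero, Fin.val_one, Fin.val_two, v3] at hs
    simp only [constProd, Fin.prod_univ_four, Fin.val_zero, Fin.val_one, Fin.val_two, v3] at hp
    have one : ∀ i, (t i).natDegree = 0 → t i = 1 := fun i h => (ht i).1.natDegree_eq_zero.1 h
    have b3 : (t 3).natDegree ≤ 1 := by omega
    have b2 : (t 2).natDegree ≤ 1 := by omega
    have b1 : (t 1).natDegree ≤ 2 := by omega
    rcases (show ((t 0).natDegree = 4 ∧ (t 1).natDegree = 0 ∧ (t 2).natDegree = 0 ∧ (t 3).natDegree = 0) ∨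
        ((t 0).natDegree = 2 ∧ (t 1).natDegree = 1 ∧ (t 2).natDegree = 0 ∧ (t 3).natDegree = 0) ∨
        ((t 0).natDegree = 1 ∧ (t 1).natDegree = 0 ∧ (t 2).natDegree = 1 ∧ (t 3).natDegree = 0) ∨
        ((t 0).natDegree = 0 ∧ (t 1).natDegree = 2 ∧ (t 2).natDegree = 0 ∧ (t 3).natDegree = 0) ∨
        ((t 0).natDegree = 0 ∧ (t 1).natDegree = 0 ∧ (t 2).natDegree = 0 ∧ (t 3).natDegree = 1) by
          rcases Nat.le_one_iff_eq_zero_or_eq_one.1 b3 with h3 | h3 <;>
            rcases Nat.le_one_iff_eq_zero_or_eq_one.1 b2 with h2 | h2 <;> omega)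
      with ⟨a, b, c, d⟩ | ⟨a, b, c, d⟩ | ⟨a, b, c, d⟩ | ⟨a, b, c, d⟩ | ⟨a, b, c, d⟩
    · refine ⟨Sum.inl ⟨t 0, (ht 0).1, a, (ht 0).2, by simpa [one 1 b, one 2 c, one 3 d] using hp⟩,
        funext fun i => ?_⟩
      fin_cases i <;> simp [f, one 1 b, one 2 c, one 3 d]
    · obtain ⟨y, hy⟩ := exists_X_add_C (ht 1).1 (ht 1).2 b
      have hp' : (t 0).coeff 0 * (y : F) ^ 2 = (-1) ^ 4 := by simpa [one 2 c, one 3 d, ← hy] using hp
      have e0 : t 0 = X ^ 2 + C ((t 0).coeff 1) * X + C ((-1) ^ 4 / (y : F) ^ 2) := by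
        rw [← hp', mul_div_cancel_right₀ _ (pow_ne_zero 2 y.ne_zero)]
        conv_lhs => rw [(ht 0).1.as_sum, a, Finset.sum_range_succ, Finset.sum_range_one]
        ring
      refine ⟨Sum.inr (Sum.inl (y, (t 0).coeff 1)), funext fun i => ?_⟩
      fin_cases i
      · simp only [f, Sum.elim_inr, Sum.elim_inl]; exact e0.symm
      · simp [f, hy]
      · simp [f, one 2 c]
      · simp [f, one 3 d]
    · obtain ⟨y, hy⟩ := exists_X_add_C (ht 2).1 (ht 2).2 c
      have hp' : (t 0).coeff 0 * (y : F) ^ 3 = (-1) ^ 4 := by simpa [one 1 b, one 3 d, ← hy] using hp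
      have e0 : t 0 = X + C ((-1) ^ 4 / (y : F) ^ 3) := by
        rw [← hp', mul_div_cancel_right₀ _ (pow_ne_zero 3 y.ne_zero)]
        exact (ht 0).1.eq_X_add_C a
      refine ⟨Sum.inr (Sum.inr (Sum.inl y)), funext fun i => ?_⟩
      fin_cases i
      · simp only [f, Sum.elim_inr, Sum.elim_inl]; exact e0.symm
      · simp [f, one 1 b]
      · simp [f, hy]
      · simp [f, one 3 d]
    · refine ⟨Sum.inr (Sum.inr (Sum.inr (Sum.inl ⟨t 1, (ht 1).1, b, (ht 1).2,
        by simpa [one 0 a, one 2 c, one 3 d] using hp⟩))), funext fun i => ?_⟩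
      fin_cases i <;> simp [f, one 0 a, one 2 c, one 3 d]
    · obtain ⟨y, hy⟩ := exists_X_add_C (ht 3).1 (ht 3).2 d
      refine ⟨Sum.inr (Sum.inr (Sum.inr (Sum.inr ⟨y, by
        simpa [one 0 a, one 1 b, one 2 c, ← hy] using hp⟩))), funext fun i => ?_⟩
      fin_cases i <;> simp [f, one 0 a, one 1 b, one 2 c, hy]
  refine (Nat.card_mono (Set.finite_range f) hsub).trans ((Finite.card_range_le f).trans ?_)
  rw [Nat.card_sum, Nat.card_sum, Nat.card_sum, Nat.card_sum, Nat.card_prod,
    Nat.card_eq_fintype_card (α := Fˣ), Fintype.card_units, Nat.card_eq_fintype_card (α := F)]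
  have h4 := card_pow_eq_le 4 ((-1 : F) ^ 4)
  rw [Nat.gcd_one_right, one_mul] at hc4
  simp only [Nat.reduceSub, pow_one] at hc2 hc4 ⊢
  omega

theorem pow_bound {q : ℕ} (hq : 3 ≤ q) : ∀ n, 7 ≤ n → n * q ^ (n / 2) ≤ q ^ (n - 2) := by
  intro n hn
  have key : ∀ k, 2 ≤ k → 2 * k + 4 ≤ 3 ^ k := by
    intro k hk
    induction k, hk using Nat.le_induction with
    | base => norm_num
    | succ k hk ih => rw [pow_succ]; omega
  calc n * q ^ (n / 2) ≤ q ^ (n - n / 2 - 2) * q ^ (n / 2) := by
        refine Nat.mul_le_mul_right _ ?_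
        calc n ≤ 2 * (n - n / 2 - 2) + 4 := by omega
          _ ≤ 3 ^ (n - n / 2 - 2) := key _ (by omega)
          _ ≤ _ := Nat.pow_le_pow_left hq _
    _ = q ^ (n - 2) := by rw [← pow_add]; congr 1; omega

theorem totient_five : Nat.totient 5 = 4 := by decide +kernel
theorem totient_six : Nat.totient 6 = 2 := by decide +kernel

theorem extra_le (hq : 3 ≤ Fintype.card F) {n : ℕ} (hn : 5 ≤ n) :
    ∑ d ∈ ((Icc 1 n).filter (fun d => d ∣ Fintype.card F - 1)).erase 1,
      d.totient * Nat.card {t : DetOne F n // ∀ k, 0 < (t.1 k).natDegree → d ∣ (k : ℕ) + 1} ≤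
      Fintype.card F ^ (n - 2) := by
  set q := Fintype.card F with hqdef
  have hstep : ∀ d ∈ ((Icc 1 n).filter (fun d => d ∣ q - 1)).erase 1,
      d.totient * Nat.card {t : DetOne F n // ∀ k, 0 < (t.1 k).natDegree → d ∣ (k : ℕ) + 1} ≤
        if d ∣ n then d.totient * q ^ (n / d) else 0 := by
    intro d hd
    simp only [mem_erase, mem_filter, mem_Icc] at hd
    split_ifs with h
    · exact Nat.mul_le_mul_left _ (card_divisible_le_pow (by omega) hd.2.1.2)
    · rw [card_divisible_eq_zero h, mul_zero]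
  refine (sum_le_sum hstep).trans ?_
  rw [← sum_filter]
  have hsub : (((Icc 1 n).filter (fun d => d ∣ q - 1)).erase 1).filter (· ∣ n) ⊆ n.divisors.erase 1 := by
    intro d hd
    simp only [mem_filter, mem_erase, mem_Icc] at hd ⊢
    exact ⟨hd.1.1, Nat.mem_divisors.2 ⟨hd.2, by omega⟩⟩
  refine (sum_le_sum_of_subset hsub).trans ?_
  rcases Nat.lt_or_ge n 7 with h7 | h7
  · interval_cases n
    · rw [show (5 : ℕ).divisors.erase 1 = {5} by decide +kernel, sum_singleton, totient_five]
      norm_num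
      nlinarith [Nat.mul_le_mul hq hq]
    · rw [show (6 : ℕ).divisors.erase 1 = {2, 3, 6} by decide +kernel, sum_insert (by decide),
        sum_insert (by decide), sum_singleton, totient_six, Nat.totient_two,
        show Nat.totient 3 = 2 by decide +kernel]
      norm_num
      nlinarith [Nat.mul_le_mul hq hq, Nat.mul_le_mul (Nat.mul_le_mul hq hq) hq]
  · calc ∑ d ∈ n.divisors.erase 1, d.totient * q ^ (n / d)
        ≤ ∑ d ∈ n.divisors.erase 1, d.totient * q ^ (n / 2) := sum_le_sum fun d hd => by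
          have h2 : 2 ≤ d := by
            have h1 := ne_of_mem_erase hd
            have h0 := Nat.pos_of_mem_divisors (mem_of_mem_erase hd)
            omega
          exact Nat.mul_le_mul_left _ (Nat.pow_le_pow_right (by omega) (Nat.div_le_div_left h2 two_pos))
      _ ≤ ∑ d ∈ n.divisors, d.totient * q ^ (n / 2) := sum_le_sum_of_subset (erase_subset _ _)
      _ = n * q ^ (n / 2) := by rw [← sum_mul, Nat.sum_totient]
      _ ≤ _ := pow_bound hq n h7

set_option maxHeartbeats 1000000 in
/-- the bound for `n ≥ 3` -/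
theorem card_classes_SL_le {n : ℕ} (hn : 3 ≤ n) :
    Nat.card (ConjClasses (Matrix.SpecialLinearGroup (Fin n) F)) ≤
      Fintype.card F ^ (n - 1) + 3 * Fintype.card F ^ (n - 2) := by
  classical
  set q := Fintype.card F with hq
  have hq2 : 2 ≤ q := Fintype.one_lt_card
  have hsum := card_classes_le_sum (F := F) (n := n) (by omega)
  set S := (Icc 1 n).filter (fun d => d ∣ q - 1) with hS
  have h1S : 1 ∈ S := by simp [hS]; omega
  rw [← add_sum_erase _ _ h1S, Nat.totient_one, one_mul] at hsum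
  have hT : Nat.card {t : DetOne F n // ∀ k, 0 < (t.1 k).natDegree → 1 ∣ (k : ℕ) + 1} ≤
      Nat.card (DetOne F n) := Finite.card_subtype_le _
  have hdvd : ∀ d ∈ S.erase 1, 2 ≤ d ∧ d ∣ q - 1 ∧ d ≤ n := by
    intro d hd
    simp only [hS, mem_erase, mem_filter, mem_Icc] at hd
    exact ⟨by omega, hd.2.2, hd.2.1.2⟩
  rcases Nat.lt_or_ge n 5 with hn5 | hn5
  · have hsmall : ∀ d ∈ S.erase 1, ¬ d ∣ n →
        d.totient * Nat.card {t : DetOne F n // ∀ k, 0 < (t.1 k).natDegree → d ∣ (k : ℕ) + 1} = 0 :=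
      fun d _ h => by rw [card_divisible_eq_zero h, mul_zero]
    interval_cases n
    · have h3 := card_detOne_three (F := F)
      have hE : ∑ d ∈ S.erase 1,
          d.totient * Nat.card {t : DetOne F 3 // ∀ k, 0 < (t.1 k).natDegree → d ∣ (k : ℕ) + 1} ≤
          if 3 ∣ q - 1 then 6 else 0 := by
        refine (sum_le_sum (g := fun d => if d = 3 ∧ 3 ∣ q - 1 then 6 else 0) fun d hd => ?_).trans ?_
        · obtain ⟨h2, hq1, hle⟩ := hdvd d hd
          interval_cases d
          · rw [hsmall 2 hd (by decide)]; exact Nat.zero_le _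
          · rw [if_pos ⟨rfl, hq1⟩, show Nat.totient 3 = 2 by decide +kernel]
            haveI := (tup_bound (F := F) 1 1).1
            have := (card_divisible_le (F := F) (n := 3) (d := 3) (by norm_num)).trans
              (card_tup_one_le 3 _)
            rw [← hq] at this
            have h3' : Nat.gcd (q - 1) 3 ≤ 3 := Nat.le_of_dvd (by norm_num) (Nat.gcd_dvd_right _ _)
            omega
        · by_cases h : 3 ∣ q - 1
          · simp only [h, and_true, if_true]
            rw [Finset.sum_ite_eq' (S.erase 1) 3 (fun _ => 6)]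
            split_ifs <;> simp
          · simp [h]
      have hgcd : Nat.gcd (q - 1) 3 = if 3 ∣ q - 1 then 3 else 1 := by
        split_ifs with h
        · exact Nat.gcd_eq_right h
        · exact Nat.coprime_comm.1 ((Nat.prime_three.coprime_iff_not_dvd).2 h)
      simp only [Nat.reduceSub, pow_one] at h3 ⊢
      rw [← hq, hgcd] at h3
      by_cases h : 3 ∣ q - 1
      · rw [if_pos h] at h3 hE
        have : 4 ≤ q := by
          have := Nat.le_of_dvd (by omega) h
          omega
        omega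
      · rw [if_neg h] at h3 hE
        omega
    · have h4 := card_detOne_four (F := F)
      have hE : ∑ d ∈ S.erase 1,
          d.totient * Nat.card {t : DetOne F 4 // ∀ k, 0 < (t.1 k).natDegree → d ∣ (k : ℕ) + 1} ≤
          (if 2 ∣ q - 1 then 2 * q + Nat.gcd (q - 1) 4 else 0) + if 4 ∣ q - 1 then 8 else 0 := by
        refine (sum_le_sum (g := fun d => (if d = 2 ∧ 2 ∣ q - 1 then 2 * q + Nat.gcd (q - 1) 4 else 0) +
          if d = 4 ∧ 4 ∣ q - 1 then 8 else 0) fun d hd => ?_).trans ?_
        · obtain ⟨h2, hq1, hle⟩ := hdvd d hd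
          interval_cases d
          · rw [if_pos ⟨rfl, hq1⟩, Nat.totient_two, one_mul]
            refine le_trans ?_ (Nat.le_add_right _ _)
            haveI := (tup_bound (F := F) 2 2).1
            refine (card_divisible_le (F := F) (n := 4) (d := 2) (by norm_num)).trans ?_
            obtain ⟨hf, hc⟩ := card_monic_pow_le (F := F) (j := 2) (by norm_num) 2 ((-1) ^ 4)
            let f : {P : F[X] // P.Monic ∧ P.natDegree = 2 ∧ P.coeff 0 ≠ 0 ∧ P.coeff 0 ^ 2 = (-1) ^ 4} ⊕
                {c : Fˣ // (c : F) ^ 4 = (-1) ^ 4} → (Fin 2 → F[X]) :=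
              Sum.elim (fun P => ![P.1, 1]) (fun c => ![1, X + C (c.1 : F)])
            have hsub : ∀ b : {b : TupSet F 2 2 // constProd b.1 ^ 2 = (-1 : F) ^ 4},
                b.1.1 ∈ Set.range f := by
              rintro ⟨⟨b, hb, hs⟩, hp⟩
              simp only [Fin.sum_univ_two, Fin.val_zero, Fin.val_one] at hs
              simp only [constProd, Fin.prod_univ_two, Fin.val_zero, Fin.val_one] at hp
              rcases (show (b 1).natDegree = 0 ∨ ((b 1).natDegree = 1 ∧ (b 0).natDegree = 0) by omega)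
                with h | ⟨h, h'⟩
              · have e1 := (hb 1).1.natDegree_eq_zero.1 h
                refine ⟨Sum.inl ⟨b 0, (hb 0).1, by omega, (hb 0).2, by simpa [e1] using hp⟩,
                  funext fun i => ?_⟩
                fin_cases i <;> simp [f, e1]
              · have e0 := (hb 0).1.natDegree_eq_zero.1 h'
                obtain ⟨c, hc⟩ := exists_X_add_C (hb 1).1 (hb 1).2 h
                refine ⟨Sum.inr ⟨c, by simpa [e0, ← hc, ← pow_mul] using hp⟩, funext fun i => ?_⟩
                fin_cases i <;> simp [f, e0, hc]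
            refine (Nat.card_le_card_of_injective (fun b => (⟨b.1.1, hsub b⟩ : Set.range f))
              fun a b h => Subtype.ext (Subtype.ext (by simpa using h))).trans
              ((Finite.card_range_le f).trans ?_)
            rw [Nat.card_sum]
            have hg : Nat.gcd (q - 1) 2 = 2 := Nat.gcd_eq_right hq1
            rw [← hq, hg] at hc
            simp only [Nat.reduceSub, pow_one] at hc
            exact Nat.add_le_add hc (card_pow_eq_le 4 _)
          · rw [hsmall 3 hd (by decide)]; exact Nat.zero_le _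
          · rw [show Nat.totient 4 = 2 by decide +kernel, if_neg (by omega), if_pos ⟨rfl, hq1⟩, zero_add]
            haveI := (tup_bound (F := F) 1 1).1
            have := (card_divisible_le (F := F) (n := 4) (d := 4) (by norm_num)).trans
              (card_tup_one_le 4 _)
            rw [← hq] at this
            have h4' : Nat.gcd (q - 1) 4 ≤ 4 := Nat.le_of_dvd (by norm_num) (Nat.gcd_dvd_right _ _)
            omega
        · rw [sum_add_distrib]
          refine Nat.add_le_add ?_ ?_
          · by_cases h : 2 ∣ q - 1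
            · simp only [h, and_true, if_true]
              rw [Finset.sum_ite_eq' (S.erase 1) 2 (fun _ => 2 * q + Nat.gcd (q - 1) 4)]
              split_ifs <;> simp
            · simp [h]
          · by_cases h : 4 ∣ q - 1
            · simp only [h, and_true, if_true]
              rw [Finset.sum_ite_eq' (S.erase 1) 4 (fun _ => 8)]
              split_ifs <;> simp
            · simp [h]
      simp only [Nat.reduceSub, pow_one] at h4 ⊢
      rw [← hq] at h4
      have hqq : (q - 1) * q + q = q ^ 2 := by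
        obtain ⟨p, hp⟩ : ∃ p, q = p + 1 := ⟨q - 1, by omega⟩
        rw [hp, Nat.add_sub_cancel]; ring
      by_cases h2 : 2 ∣ q - 1
      · have hq3 : 3 ≤ q := by omega
        rw [if_pos h2] at hE
        rw [Nat.gcd_eq_right h2] at h4
        have h4le : Nat.gcd (q - 1) 4 ≤ if 4 ∣ q - 1 then 4 else 2 := by
          split_ifs with h
          · exact Nat.le_of_dvd (by norm_num) (Nat.gcd_dvd_right _ _)
          · obtain ⟨i, hi, hig⟩ := (Nat.dvd_prime_pow Nat.prime_two).1
              (show Nat.gcd (q - 1) 4 ∣ 2 ^ 2 from Nat.gcd_dvd_right _ _)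
            have hne : i ≠ 2 := fun e => h (by
              have := Nat.gcd_dvd_left (q - 1) 4
              rw [hig, e] at this
              exact this)
            have hi' : i ≤ 1 := by omega
            rcases Nat.le_one_iff_eq_zero_or_eq_one.1 hi' with rfl | rfl <;> omega
        by_cases h : 4 ∣ q - 1
        · rw [if_pos h] at hE h4le
          have : 5 ≤ q := by omega
          nlinarith
        · rw [if_neg h] at hE h4le
          nlinarith
      · rw [if_neg h2, if_neg (fun h => h2 (dvd_trans (by norm_num) h))] at hE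
        have hg2 : Nat.gcd (q - 1) 2 = 1 :=
          Nat.coprime_comm.1 ((Nat.prime_two.coprime_iff_not_dvd).2 h2)
        have hg4 : Nat.gcd (q - 1) 4 = 1 := Nat.Coprime.pow_right 2 hg2
        rw [hg2, hg4] at h4
        nlinarith
  · rcases Nat.lt_or_ge q 3 with h3 | h3
    · have hq' : q = 2 := by omega
      have he : S.erase 1 = ∅ := by
        refine eq_empty_iff_forall_notMem.2 fun d hd => ?_
        obtain ⟨h2, hd1, -⟩ := hdvd d hd
        have := Nat.le_of_dvd (by omega) hd1
        omega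
      rw [he, sum_empty, add_zero] at hsum
      have h1 := card_detOne_le (F := F) (n := n) (by omega)
      rw [← hq, hq'] at h1
      simp only [Nat.add_one_sub_one, one_mul, Nat.sub_self, zero_mul, add_zero] at h1
      rw [hq']
      have hp1 : 2 ^ n = 2 * 2 ^ (n - 1) := by rw [← pow_succ']; congr 1; omega
      have hp2 : 2 ^ (n - 1) = 2 * 2 ^ (n - 2) := by rw [← pow_succ']; congr 1; omega
      omega
    · have hE := extra_le (F := F) (n := n) h3 hn5
      rw [← hq, ← hS] at hE
      have h1 := card_detOne_le (F := F) (n := n) (by omega)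
      have hP := card_noOnes_le (F := F) h3 n n
      rw [← hq] at h1 hP
      unfold noOnesBd at hP
      rw [if_neg (by omega), if_neg (by omega), if_neg (by omega), if_neg (by omega)] at hP
      have hp1 : q ^ n = q * q ^ (n - 1) := by rw [← pow_succ']; congr 1; omega
      have hp2 : q ^ (n - 1) = q * q ^ (n - 2) := by rw [← pow_succ']; congr 1; omega
      set T := Nat.card (DetOne F n)
      set A := q ^ (n - 2)
      have hmain : (q - 1) * T ≤ (q - 1) * (q ^ (n - 1) + 2 * A) := by
        obtain ⟨p, hp⟩ : ∃ p, q = p + 2 := ⟨q - 2, by omega⟩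
        rw [hp1, hp2] at h1
        rw [hp2]
        have h2 := Nat.mul_le_mul_left (q - 2) hP
        rw [hp] at h1 h2 ⊢
        simp only [Nat.add_sub_cancel, show p + 2 - 1 = p + 1 by omega] at h1 h2 ⊢
        nlinarith
      have hT' : T ≤ q ^ (n - 1) + 2 * A := Nat.le_of_mul_le_mul_left hmain (by omega)
      omega

/-- the bound for `n = 2` -/
theorem card_classes_SL_two_le :
    2 * Nat.card (ConjClasses (Matrix.SpecialLinearGroup (Fin 2) F)) ≤ 5 * Fintype.card F := by
  classical
  set q := Fintype.card F with hq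
  have hq2 : 2 ≤ q := Fintype.one_lt_card
  have hsum := card_classes_le_sum (F := F) (n := 2) (by norm_num)
  set S := (Icc 1 2).filter (fun d => d ∣ q - 1) with hS
  have h1S : 1 ∈ S := by simp [hS]
  rw [← add_sum_erase _ _ h1S, Nat.totient_one, one_mul] at hsum
  have hT : Nat.card {t : DetOne F 2 // ∀ k, 0 < (t.1 k).natDegree → 1 ∣ (k : ℕ) + 1} ≤
      Nat.card (DetOne F 2) := Finite.card_subtype_le _
  have h2 := card_detOne_two (F := F)
  rw [← hq] at h2
  by_cases h : 2 ∣ q - 1
  · have hle : S.erase 1 ⊆ {2} := by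
      intro d hd
      simp only [hS, mem_erase, mem_filter, mem_Icc] at hd
      simp only [mem_singleton]
      omega
    have hE := sum_le_sum_of_subset (f := fun d =>
      d.totient * Nat.card {t : DetOne F 2 // ∀ k, 0 < (t.1 k).natDegree → d ∣ (k : ℕ) + 1}) hle
    rw [sum_singleton, Nat.totient_two, one_mul] at hE
    haveI := (tup_bound (F := F) 1 1).1
    have := (card_divisible_le (F := F) (n := 2) (d := 2) (by norm_num)).trans (card_tup_one_le 2 _)
    rw [← hq, Nat.gcd_eq_right h] at this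
    rw [Nat.gcd_eq_right h] at h2
    omega
  · have hle : S.erase 1 = ∅ := by
      refine eq_empty_iff_forall_notMem.2 fun d hd => ?_
      simp only [hS, mem_erase, mem_filter, mem_Icc] at hd
      obtain rfl : d = 2 := by omega
      exact h hd.2.2
    rw [hle, sum_empty, add_zero] at hsum
    have hg2 : Nat.gcd (q - 1) 2 = 1 :=
      Nat.coprime_comm.1 ((Nat.prime_two.coprime_iff_not_dvd).2 h)
    rw [hg2] at h2
    omega

end Cfsg.Agent.ClassBound
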