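import Mathlib

/-!
Norms on products and on truncated polynomial rings `F[X]/(f^e)` over a finite field.
-/

set_option autoImplicit false

namespace Cfsg.Agent.ClassBound

open Polynomial

universe u v

/-- The norm of an element which is one outside a single coordinate. -/
theorem norm_mulSingle {F : Type u} [Field F] {ι : Type v} [Fintype ι] [DecidableEq ι] {R : ι → Type u}
    [∀ i, CommRing (R i)] [∀ i, Algebra F (R i)] [∀ i, Module.Finite F (R i)] (i : ι) (y : R i) :
    Algebra.norm F (Pi.mulSingle i y : ∀ j, R j) = Algebra.norm F y := by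
  let E : (∀ j, R j) ≃ₗ[F] R i × ∀ j : {j // j ≠ i}, R j.1 :=
    { toFun := fun x => (x i, fun j => x j.1)
      map_add' := fun a b => rfl
      map_smul' := fun c a => rfl
      invFun := fun p j => if h : j = i then h ▸ p.1 else p.2 ⟨j, h⟩
      left_inv := fun x => by
        funext j
        by_cases h : j = i
        · subst h; simp
        · simp [h]
      right_inv := fun p => by
        refine Prod.ext (by simp) ?_
        funext j
        simp [j.2] }
  have h1 : E.conj (Algebra.lmul F (∀ j, R j) (Pi.mulSingle i y)) =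
      (Algebra.lmul F (R i) y).prodMap (LinearMap.id : (∀ j : {j // j ≠ i}, R j.1) →ₗ[F] _) := by
    refine LinearMap.ext fun p => ?_
    obtain ⟨x, rfl⟩ := E.surjective p
    rw [LinearEquiv.conj_apply_apply, LinearEquiv.symm_apply_apply, LinearMap.prodMap_apply]
    refine Prod.ext ?_ ?_
    · show (Pi.mulSingle i y * x : ∀ j, R j) i = y * x i
      simp
    · funext j
      show (Pi.mulSingle i y * x : ∀ j, R j) j.1 = x j.1
      simp [j.2]
  rw [Algebra.norm_apply, Algebra.norm_apply]
  have h2 : LinearMap.det (E.conj (Algebra.lmul F (∀ j, R j) (Pi.mulSingle i y))) =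
      LinearMap.det (Algebra.lmul F (∀ j, R j) (Pi.mulSingle i y)) := by
    rw [LinearEquiv.conj_apply, LinearMap.comp_assoc, LinearMap.det_conj]
  rw [← h2, h1, LinearMap.det_prodMap, LinearMap.det_id, mul_one]

theorem norm_pi {F : Type u} [Field F] {ι : Type v} [Fintype ι] {R : ι → Type u}
    [∀ i, CommRing (R i)] [∀ i, Algebra F (R i)] [∀ i, Module.Finite F (R i)] (y : ∀ j, R j) :
    Algebra.norm F y = ∏ i, Algebra.norm F (y i) := by
  classical
  conv_lhs => rw [← Finset.univ_prod_mulSingle y]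
  rw [map_prod]
  exact Finset.prod_congr rfl fun i _ => norm_mulSingle i (y i)

theorem norm_root {F : Type u} [Field F] {P : F[X]} (hP : P.Monic) :
    Algebra.norm F (AdjoinRoot.root P) = (-1) ^ P.natDegree * P.coeff 0 := by
  have h := Algebra.PowerBasis.norm_gen_eq_coeff_zero_minpoly (AdjoinRoot.powerBasis' hP)
  rw [AdjoinRoot.powerBasis'_gen, AdjoinRoot.powerBasis'_dim, AdjoinRoot.minpoly_root hP.ne_zero,
    hP.leadingCoeff, inv_one, C_1, mul_one] at h
  exact h

/-- Every `e`-th power is a norm from `F[X]/(f^e)`. -/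
theorem exists_norm_pow {F : Type u} [Field F] [Finite F] {f : F[X]} (hf : Irreducible f) (hm : f.Monic)
    {e : ℕ} (he : 1 ≤ e) (c : F) : ∃ y : AdjoinRoot (f ^ e), Algebra.norm F y = c ^ e := by
  classical
  haveI := Fintype.ofFinite F
  obtain ⟨p, hp⟩ := CharP.exists F
  haveI : Fact p.Prime := ⟨CharP.char_is_prime F p⟩
  obtain ⟨a, -, ha⟩ := FiniteField.card F p
  let P := f ^ e
  have hPm : P.Monic := hm.pow e
  haveI : Module.Finite F (AdjoinRoot P) := (AdjoinRoot.powerBasis' hPm).finite
  haveI : Fact (Irreducible f) := ⟨hf⟩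
  haveI : Module.Finite F (AdjoinRoot f) := (AdjoinRoot.powerBasis' hm).finite
  have hdeg : P.natDegree = e * f.natDegree := natDegree_pow _ _
  haveI : Nontrivial (AdjoinRoot P) :=
    Module.nontrivial_of_finrank_pos (R := F) (M := AdjoinRoot P) (by
      rw [(AdjoinRoot.powerBasis' hPm).finrank, AdjoinRoot.powerBasis'_dim, hdeg]
      exact Nat.mul_pos he hf.natDegree_pos)
  haveI : CharP (AdjoinRoot P) p :=
    charP_of_injective_algebraMap (algebraMap F (AdjoinRoot P)).injective p
  haveI : ExpChar (AdjoinRoot P) p := ExpChar.prime Fact.out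
  -- projection to the residue field
  have hdvd : f ∣ P := dvd_pow_self f (by omega)
  let π : AdjoinRoot P →+* AdjoinRoot f := AdjoinRoot.lift (AdjoinRoot.of f) (AdjoinRoot.root f) (by
    rw [← AdjoinRoot.algebraMap_eq, ← aeval_def, AdjoinRoot.aeval_eq, AdjoinRoot.mk_eq_zero]
    exact hdvd)
  have hπmk : ∀ r, π (AdjoinRoot.mk P r) = AdjoinRoot.mk f r := by
    intro r
    rw [AdjoinRoot.lift_mk, ← AdjoinRoot.algebraMap_eq, ← aeval_def, AdjoinRoot.aeval_eq]
  have hπs : Function.Surjective π := fun x => by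
    obtain ⟨r, rfl⟩ := AdjoinRoot.mk_surjective x
    exact ⟨_, hπmk r⟩
  let k : ℕ := (a : ℕ) * (f.natDegree * e)
  let ψ : AdjoinRoot P →+* AdjoinRoot P := iterateFrobenius (AdjoinRoot P) p k
  have hψ : ∀ x, ψ x = x ^ p ^ k := iterateFrobenius_def p k
  have hek : e ≤ p ^ k := by
    have h1 : e ≤ k := by
      calc e = 1 * (1 * e) := by ring
        _ ≤ k := Nat.mul_le_mul a.pos (Nat.mul_le_mul hf.natDegree_pos le_rfl)
    exact h1.trans (Nat.lt_pow_self (Fact.out : p.Prime).one_lt).le
  have hker : RingHom.ker π ≤ RingHom.ker ψ := by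
    intro x hx
    rw [RingHom.mem_ker] at hx ⊢
    obtain ⟨r, rfl⟩ := AdjoinRoot.mk_surjective x
    rw [hπmk, AdjoinRoot.mk_eq_zero] at hx
    rw [hψ, ← map_pow, AdjoinRoot.mk_eq_zero]
    exact (pow_dvd_pow_of_dvd hx e).trans (pow_dvd_pow r hek)
  let φ := RingHom.liftOfSurjective π hπs ⟨ψ, hker⟩
  have hφ : ∀ x, φ (π x) = ψ x := RingHom.liftOfRightInverse_comp_apply _ _ _ ⟨ψ, hker⟩
  have hc : ∀ d : F, φ (algebraMap F (AdjoinRoot f) d) = algebraMap F (AdjoinRoot P) d := by
    intro d
    have h1 : algebraMap F (AdjoinRoot f) d = π (algebraMap F (AdjoinRoot P) d) := by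
      rw [AdjoinRoot.algebraMap_eq, AdjoinRoot.algebraMap_eq, AdjoinRoot.lift_of]
    rw [h1, hφ, hψ, ← map_pow]
    congr 1
    have h2 : p ^ k = Fintype.card F ^ (f.natDegree * e) := by rw [ha, ← pow_mul]
    rw [h2, FiniteField.pow_card_pow]
  let φa : AdjoinRoot f →ₐ[F] AdjoinRoot P := { φ with commutes' := hc }
  letI : Algebra (AdjoinRoot f) (AdjoinRoot P) := φa.toRingHom.toAlgebra
  haveI : IsScalarTower F (AdjoinRoot f) (AdjoinRoot P) := IsScalarTower.of_algHom φa
  haveI : Finite (AdjoinRoot f) := Module.finite_of_finite F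
  obtain ⟨x, hx⟩ := FiniteField.norm_surjective F (AdjoinRoot f) c
  refine ⟨algebraMap (AdjoinRoot f) (AdjoinRoot P) x, ?_⟩
  haveI : Module.Finite (AdjoinRoot f) (AdjoinRoot P) := Module.Finite.of_restrictScalars_finite F _ _
  have hfr : Module.finrank (AdjoinRoot f) (AdjoinRoot P) = e := by
    have h1 := Module.finrank_mul_finrank F (AdjoinRoot f) (AdjoinRoot P)
    rw [(AdjoinRoot.powerBasis' hm).finrank, (AdjoinRoot.powerBasis' hPm).finrank,
      AdjoinRoot.powerBasis'_dim, AdjoinRoot.powerBasis'_dim, hdeg, mul_comm e] at h1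
    exact Nat.eq_of_mul_eq_mul_left hf.natDegree_pos h1
  rw [← Algebra.norm_norm (R := F) (S := AdjoinRoot f), Algebra.norm_algebraMap, hfr, map_pow, hx]

end Cfsg.Agent.ClassBound
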