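import Cfsg.Agent.ClassBound.Count

/-! An additive bound for the classes of `SL_2(q)`. -/

set_option autoImplicit false

namespace Cfsg.Agent.ClassBound

open Polynomial Finset Cfsg.Agent.GLSemi

universe u

variable {F : Type u} [Field F] [Fintype F]

/-- the bound for `n = 2`, additive form -/
theorem card_classes_SL_two_le_add :
    Nat.card (ConjClasses (Matrix.SpecialLinearGroup (Fin 2) F)) ≤ Fintype.card F + 4 := by
  classical
  set q := Fintype.card F with hq
  have hq2 : 2 ≤ q := Fintype.one_lt_card
  have hsum := card_classes_le_sum (F := F) (n := 2) (by norm_num)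
  set S := (Icc 1 2).filter (fun d => d ∣ q - 1) with hS
  have h1S : 1 ∈ S := by simp [hS]
  rw [← add_sum_erase _ _ h1S, Nat.totient_one, one_mul] at hsum
  have hT : Nat.card {t : DetOne F 2 // ∀ k, 0 < (t.1 k).natDegree → 1 ∣ (k : ℕ) + 1} ≤
      Nat.card (DetOne F 2) := Finite.card_subtype_le _
  have h2 := card_detOne_two (F := F)
  rw [← hq] at h2
  by_cases h : 2 ∣ q - 1
  · have hle : S.erase 1 ⊆ {2} := by
      intro d hd
      simp only [hS, mem_erase, mem_filter, mem_Icc] at hd
      simp only [mem_singleton]
      omega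
    have hE := sum_le_sum_of_subset (f := fun d =>
      d.totient * Nat.card {t : DetOne F 2 // ∀ k, 0 < (t.1 k).natDegree → d ∣ (k : ℕ) + 1}) hle
    rw [sum_singleton, Nat.totient_two, one_mul] at hE
    haveI := (tup_bound (F := F) 1 1).1
    have := (card_divisible_le (F := F) (n := 2) (d := 2) (by norm_num)).trans (card_tup_one_le 2 _)
    rw [← hq, Nat.gcd_eq_right h] at this
    rw [Nat.gcd_eq_right h] at h2
    omega
  · have hle : S.erase 1 = ∅ := by
      refine eq_empty_iff_forall_notMem.2 fun d hd => ?_
      simp only [hS, mem_erase, mem_filter, mem_Icc] at hd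
      obtain rfl : d = 2 := by omega
      exact h hd.2.2
    rw [hle, sum_empty, add_zero] at hsum
    have hg2 : Nat.gcd (q - 1) 2 = 1 :=
      Nat.coprime_comm.1 ((Nat.prime_two.coprime_iff_not_dvd).2 h)
    rw [hg2] at h2
    omega

end Cfsg.Agent.ClassBound
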