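import Cfsg.Agent.ClassBound.SLClasses

/-!
Uniqueness of elementary divisors by kernel dimensions, and their behaviour under scaling.
-/

set_option autoImplicit false

namespace Cfsg.Agent.ClassBound

open Polynomial Module Cfsg.Agent.GLSemi

universe u

variable {F : Type u} [Field F]

/-- the multiplication by `P` on `F[X]/(Q)` over `F` -/
noncomputable def mulQ (P Q : F[X]) : AdjoinRoot Q →ₗ[F] AdjoinRoot Q :=
  LinearMap.mulLeft F (AdjoinRoot.mk Q P)

theorem mulQ_mk (P Q r : F[X]) : mulQ P Q (AdjoinRoot.mk Q r) = AdjoinRoot.mk Q (P * r) := by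
  simp [mulQ]

theorem finrank_ker_mulQ_self {f : F[X]} (hm : f.Monic) (i e : ℕ) :
    finrank F (LinearMap.ker (mulQ (f ^ i) (f ^ e))) = min i e * f.natDegree := by
  set k := min i e with hk
  let Q := f ^ k
  let φ : AdjoinRoot Q →ₗ[F] AdjoinRoot (f ^ e) :=
    { toFun := fun x => Quotient.liftOn' x (fun r => AdjoinRoot.mk (f ^ e) (f ^ (e - k) * r)) (by
        intro a b hab
        have h := (Submodule.quotientRel_def _).mp hab
        obtain ⟨c, hc⟩ := Ideal.mem_span_singleton'.mp h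
        rw [AdjoinRoot.mk_eq_mk, ← mul_sub, ← hc]
        exact ⟨c, by rw [show e = e - k + k by omega, pow_add, Nat.add_sub_cancel]; ring⟩)
      map_add' := fun x y => Quotient.inductionOn₂' x y fun a b => by
        show AdjoinRoot.mk (f ^ e) (f ^ (e - k) * (a + b)) = AdjoinRoot.mk (f ^ e) (f ^ (e - k) * a) +
          AdjoinRoot.mk (f ^ e) (f ^ (e - k) * b)
        rw [mul_add, map_add]
      map_smul' := fun c x => Quotient.inductionOn' x fun a => by
        show AdjoinRoot.mk (f ^ e) (f ^ (e - k) * (c • a)) = c • AdjoinRoot.mk (f ^ e) (f ^ (e - k) * a)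
        rw [mul_smul_comm]
        exact map_smul (AdjoinRoot.mkₐ (f ^ e)) c (f ^ (e - k) * a) }
  have hφ : ∀ r, φ (AdjoinRoot.mk Q r) = AdjoinRoot.mk (f ^ e) (f ^ (e - k) * r) := fun r => rfl
  have hinj : Function.Injective φ := by
    rw [injective_iff_map_eq_zero]
    intro x hx
    obtain ⟨r, rfl⟩ := AdjoinRoot.mk_surjective x
    rw [hφ, AdjoinRoot.mk_eq_zero] at hx
    rw [AdjoinRoot.mk_eq_zero]
    refine (mul_dvd_mul_iff_left (pow_ne_zero (e - k) hm.ne_zero)).1 ?_
    rwa [← pow_add, Nat.sub_add_cancel (show k ≤ e by omega)]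
  have hrange : LinearMap.range φ = LinearMap.ker (mulQ (f ^ i) (f ^ e)) := by
    apply le_antisymm
    · rintro _ ⟨x, rfl⟩
      obtain ⟨r, rfl⟩ := AdjoinRoot.mk_surjective x
      rw [LinearMap.mem_ker, hφ, mulQ_mk, AdjoinRoot.mk_eq_zero, ← mul_assoc, ← pow_add]
      exact (pow_dvd_pow f (by omega)).mul_right _
    · intro x hx
      obtain ⟨r, rfl⟩ := AdjoinRoot.mk_surjective x
      rw [LinearMap.mem_ker, mulQ_mk, AdjoinRoot.mk_eq_zero] at hx
      have h1 : f ^ (e - k) ∣ r := by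
        rcases le_total i e with h | h
        · refine (mul_dvd_mul_iff_left (pow_ne_zero i hm.ne_zero)).1 ?_
          rwa [← pow_add, show i + (e - k) = e by omega]
        · rw [show e - k = 0 by omega, pow_zero]; exact one_dvd _
      obtain ⟨c, rfl⟩ := h1
      exact ⟨AdjoinRoot.mk Q c, hφ c⟩
  rw [← hrange, LinearMap.finrank_range_of_inj hinj, (AdjoinRoot.powerBasis' (hm.pow k)).finrank,
    AdjoinRoot.powerBasis'_dim, natDegree_pow]

theorem ker_mulQ_ne {f g : F[X]} (hf : Irreducible f) (hg : Irreducible g) (hfm : f.Monic)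
    (hgm : g.Monic) (hne : f ≠ g) (i e : ℕ) : LinearMap.ker (mulQ (f ^ i) (g ^ e)) = ⊥ := by
  rw [eq_bot_iff]
  intro x hx
  obtain ⟨r, rfl⟩ := AdjoinRoot.mk_surjective x
  rw [LinearMap.mem_ker, mulQ_mk, AdjoinRoot.mk_eq_zero] at hx
  rw [Submodule.mem_bot, AdjoinRoot.mk_eq_zero]
  have hco : IsCoprime f g := (hf.coprime_iff_not_dvd).2 fun hd =>
    hne (eq_of_monic_of_associated hfm hgm (hf.associated_of_dvd hg hd))
  exact ((hco.pow (m := i) (n := e)).symm).dvd_of_dvd_mul_left hx

/-- kernel dimension of a polynomial in a matrix -/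
noncomputable def kerDim {n : ℕ} (M : Matrix (Fin n) (Fin n) F) (P : F[X]) : ℕ :=
  finrank F (LinearMap.ker (aeval (Matrix.toLin' M) P))

open Classical in
/-- the counting function of the data -/
noncomputable def minSum (s : Multiset (F[X] × ℕ)) (f : F[X]) (i : ℕ) : ℕ :=
  (s.map fun z => if z.1 = f then min i z.2 else 0).sum

theorem kerDim_pow {n : ℕ} {M : Matrix (Fin n) (Fin n) F} {s : Multiset (F[X] × ℕ)}
    (hs : IsDivData n s) (hM : HasDivData M s) {f : F[X]} (hf : Irreducible f) (hm : f.Monic) (i : ℕ) :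
    kerDim M (f ^ i) = minSum s f i * f.natDegree := by
  classical
  obtain ⟨ι, _, z, hz, ⟨L⟩⟩ := hM
  have hzi : ∀ j, z j ∈ s := fun j => hz ▸ Multiset.mem_map_of_mem _ (Finset.mem_univ j)
  set T := Matrix.toLin' M with hT
  set P := f ^ i with hP
  let Z : ι → F[X] := fun j => (z j).1 ^ (z j).2
  haveI : ∀ j, Module.Finite F (AdjoinRoot (Z j)) := fun j =>
    (AdjoinRoot.powerBasis' ((hs.1 _ (hzi j)).1.pow _)).finite
  let Θ : (∀ j, F[X] ⧸ Submodule.span F[X] {Z j}) ≃ₗ[F] ∀ j, AdjoinRoot (Z j) :=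
    LinearEquiv.piCongrRight fun j =>
      { toFun := fun x => x
        invFun := fun x => x
        left_inv := fun _ => rfl
        right_inv := fun _ => rfl
        map_add' := fun _ _ => rfl
        map_smul' := fun c x => by
          obtain ⟨r, rfl⟩ := Submodule.Quotient.mk_surjective _ x
          rfl }
  let ψ := ((AEval'.of T).trans (L.restrictScalars F)).trans Θ
  have hψ : ∀ v j, ψ (aeval T P v) j = mulQ P (Z j) (ψ v j) := by
    intro v j
    have h1 : L ((AEval'.of T) (aeval T P v)) = P • L (AEval'.of T v) := by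
      rw [← map_smul]
      exact congrArg L (Module.AEval.of_aeval_smul (a := T) P v)
    show Θ (L ((AEval'.of T) (aeval T P v))) j = mulQ P (Z j) (Θ (L (AEval'.of T v)) j)
    rw [h1]
    generalize L (AEval'.of T v) = y
    choose r hr using fun j => Submodule.Quotient.mk_surjective _ (y j)
    rw [show y = fun j => Submodule.Quotient.mk (r j) from (funext hr).symm]
    exact (mulQ_mk P (Z j) (r j)).symm
  let K : LinearMap.ker (aeval T P) ≃ₗ[F] ∀ j, LinearMap.ker (mulQ P (Z j)) :=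
    { toFun := fun v j => ⟨ψ v.1 j, by rw [LinearMap.mem_ker, ← hψ, LinearMap.mem_ker.1 v.2, map_zero]; rfl⟩
      map_add' := fun a b => funext fun j => Subtype.ext (by simp)
      map_smul' := fun c a => funext fun j => Subtype.ext (by simp)
      invFun := fun w => ⟨ψ.symm fun j => (w j).1, by
        rw [LinearMap.mem_ker]
        refine ψ.injective ?_
        rw [map_zero]
        funext j
        rw [hψ, LinearEquiv.apply_symm_apply]
        exact LinearMap.mem_ker.1 (w j).2⟩
      left_inv := fun v => Subtype.ext (by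
        show ψ.symm (fun j => ψ v.1 j) = v.1
        exact ψ.symm_apply_apply v.1)
      right_inv := fun w => funext fun j => Subtype.ext (by
        show ψ (ψ.symm fun j => (w j).1) j = _
        rw [LinearEquiv.apply_symm_apply]) }
  rw [kerDim, ← hT, K.finrank_eq, Module.finrank_pi_fintype, minSum, ← hz, Multiset.map_map,
    Finset.sum_map_val, Finset.sum_mul]
  refine Finset.sum_congr rfl fun j _ => ?_
  obtain ⟨hjm, hjirr, -⟩ := hs.1 _ (hzi j)
  simp only [Function.comp_apply]
  split_ifs with h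
  · show finrank F (LinearMap.ker (mulQ (f ^ i) ((z j).1 ^ (z j).2))) = _
    rw [h]
    exact finrank_ker_mulQ_self hm i _
  · rw [zero_mul, hP]
    simp only [Z]
    rw [ker_mulQ_ne hf hjirr hm hjm (Ne.symm h), finrank_bot]

open Classical in
theorem minSum_succ (s : Multiset (F[X] × ℕ)) (f : F[X]) (e : ℕ) :
    2 * minSum s f (e + 1) = minSum s f e + minSum s f (e + 2) + s.count (f, e + 1) := by
  simp only [minSum]
  induction s using Multiset.induction_on with
  | empty => simp
  | cons z t ih =>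
    simp only [Multiset.map_cons, Multiset.sum_cons, Multiset.count_cons]
    obtain ⟨g, a⟩ := z
    by_cases hg : g = f
    · subst hg
      by_cases ha : e + 1 = a
      · subst ha; simp; omega
      · simp [ha]; omega
    · simp [hg, Ne.symm hg]; omega

open Classical in
theorem count_eq_of_kerDim {n : ℕ} {M M' : Matrix (Fin n) (Fin n) F} {s s' : Multiset (F[X] × ℕ)}
    (hs : IsDivData n s) (hs' : IsDivData n s') (hM : HasDivData M s) (hM' : HasDivData M' s')
    {f f' : F[X]} (hf : Irreducible f) (hm : f.Monic) (hf' : Irreducible f') (hm' : f'.Monic)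
    (hdeg : f.natDegree = f'.natDegree) (hker : ∀ i, kerDim M (f ^ i) = kerDim M' (f' ^ i)) (e : ℕ) :
    s.count (f, e + 1) = s'.count (f', e + 1) := by
  classical
  have h : ∀ i, minSum s f i = minSum s' f' i := fun i => by
    have h1 := hker i
    rw [kerDim_pow hs hM hf hm, kerDim_pow hs' hM' hf' hm', hdeg] at h1
    exact Nat.eq_of_mul_eq_mul_right hf'.natDegree_pos h1
  have a := minSum_succ s f e
  have b := minSum_succ s' f' e
  rw [h, h, h] at a
  omega

/-- the twist of a polynomial by a scalar -/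
noncomputable def twist (ζ : Fˣ) (f : F[X]) : F[X] :=
  C (((ζ⁻¹ : Fˣ) : F) ^ f.natDegree) * f.comp (C (ζ : F) * X)

theorem natDegree_twist (ζ : Fˣ) (f : F[X]) : (twist ζ f).natDegree = f.natDegree := by
  rw [twist, natDegree_C_mul (pow_ne_zero _ (ζ⁻¹).ne_zero), natDegree_comp,
    natDegree_C_mul_X _ ζ.ne_zero, mul_one]

theorem coeff_twist (ζ : Fˣ) (f : F[X]) (i : ℕ) :
    (twist ζ f).coeff i = ((ζ⁻¹ : Fˣ) : F) ^ f.natDegree * (f.coeff i * (ζ : F) ^ i) := by
  rw [twist, coeff_C_mul, comp_C_mul_X_coeff]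

theorem twist_inv (ζ : Fˣ) (f : F[X]) : twist ζ⁻¹ (twist ζ f) = f := by
  ext i
  rw [coeff_twist, coeff_twist, natDegree_twist, inv_inv]
  calc (ζ : F) ^ f.natDegree * (((ζ⁻¹ : Fˣ) : F) ^ f.natDegree * (f.coeff i * (ζ : F) ^ i) *
        ((ζ⁻¹ : Fˣ) : F) ^ i)
      = ((ζ : F) * ((ζ⁻¹ : Fˣ) : F)) ^ f.natDegree * (((ζ : F) * ((ζ⁻¹ : Fˣ) : F)) ^ i) * f.coeff i := by
        rw [mul_pow, mul_pow]; ring
    _ = f.coeff i := by rw [Units.mul_inv, one_pow, one_pow, one_mul, one_mul]

theorem monic_twist {ζ : Fˣ} {f : F[X]} (hf : f.Monic) : (twist ζ f).Monic := by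
  rw [Monic, leadingCoeff, natDegree_twist, coeff_twist, hf.coeff_natDegree, one_mul, ← mul_pow,
    Units.inv_mul, one_pow]

theorem irreducible_twist {ζ : Fˣ} {f : F[X]} (hf : Irreducible f) : Irreducible (twist ζ f) := by
  rw [twist, irreducible_isUnit_mul (isUnit_C.2 ((ζ⁻¹).isUnit.pow _))]
  letI : Invertible (ζ : F) := ζ.invertible
  let σ : F[X] ≃ₐ[F] F[X] := algEquivCMulXAddC (ζ : F) 0
  have hσ : σ f = f.comp (C (ζ : F) * X) := by
    show aeval (C (ζ : F) * X + C 0) f = _
    rw [C_0, add_zero, ← comp_eq_aeval]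
  rw [← hσ]
  exact (MulEquiv.irreducible_iff σ).2 hf

theorem twist_mul {ζ : Fˣ} {f g : F[X]} (hf : f ≠ 0) (hg : g ≠ 0) :
    twist ζ (f * g) = twist ζ f * twist ζ g := by
  simp only [twist, natDegree_mul hf hg, pow_add, mul_comp, map_mul]
  ring

theorem twist_one (ζ : Fˣ) : twist ζ (1 : F[X]) = 1 := by simp [twist]

theorem twist_multiset_prod (ζ : Fˣ) (s : Multiset F[X]) (h : ∀ f ∈ s, f ≠ 0) :
    twist ζ s.prod = (s.map (twist ζ)).prod := by
  induction s using Multiset.induction_on with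
  | empty => simp [twist_one]
  | cons f t ih =>
    rw [Multiset.prod_cons, Multiset.map_cons, Multiset.prod_cons,
      twist_mul (h f (Multiset.mem_cons_self _ _)) (Multiset.prod_ne_zero fun h0 =>
        h 0 (Multiset.mem_cons_of_mem h0) rfl), ih fun g hg => h g (Multiset.mem_cons_of_mem hg)]

theorem kerDim_smul {n : ℕ} (ζ : Fˣ) (M : Matrix (Fin n) (Fin n) F) (f : F[X]) (i : ℕ) :
    kerDim ((ζ : F) • M) (f ^ i) = kerDim M (twist ζ f ^ i) := by
  have h1 : aeval (Matrix.toLin' ((ζ : F) • M)) (f ^ i) =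
      (((ζ : F) ^ f.natDegree) ^ i) • aeval (Matrix.toLin' M) (twist ζ f ^ i) := by
    rw [twist, mul_pow, ← C_pow, map_mul, aeval_C, ← Algebra.smul_def, smul_smul, ← mul_pow,
      ← mul_pow, Units.mul_inv, one_pow, one_pow, one_smul, ← pow_comp, aeval_comp, map_mul (aeval (Matrix.toLin' M)) (C (ζ : F)), aeval_C, aeval_X,
      ← Algebra.smul_def, map_smul]
  rw [kerDim, kerDim, h1, LinearMap.ker_smul _ _ (pow_ne_zero _ (pow_ne_zero _ ζ.ne_zero))]

theorem kerDim_conj {n : ℕ} (X : GL (Fin n) F) (M : Matrix (Fin n) (Fin n) F) (P : F[X]) :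
    kerDim ((X : Matrix (Fin n) (Fin n) F) * M * ((X⁻¹ : GL (Fin n) F) : Matrix (Fin n) (Fin n) F)) P =
      kerDim M P := by
  let E := Matrix.GeneralLinearGroup.toLin X
  let e : (Fin n → F) ≃ₗ[F] (Fin n → F) := LinearMap.GeneralLinearGroup.generalLinearEquiv F _ E
  have he : ∀ v, e v = (X : Matrix (Fin n) (Fin n) F).mulVec v := fun v => rfl
  have h1 : ∀ v, e (aeval (Matrix.toLin' M) P v) =
      aeval (Matrix.toLin' ((X : Matrix (Fin n) (Fin n) F) * M * ((X⁻¹ : GL (Fin n) F) : Matrix (Fin n) (Fin n) F))) P (e v) := by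
    intro v
    induction P using Polynomial.induction_on generalizing v with
    | C a =>
      rw [aeval_C, aeval_C, Module.algebraMap_end_apply, Module.algebraMap_end_apply, map_smul]
    | add p q hp hq => rw [map_add, map_add, LinearMap.add_apply, LinearMap.add_apply, map_add, hp, hq]
    | monomial k a ih =>
      rw [pow_succ, ← mul_assoc, map_mul _ _ Polynomial.X, map_mul _ _ Polynomial.X, aeval_X, aeval_X,
        Module.End.mul_apply, Module.End.mul_apply, ih]
      congr 1
      rw [he, he, Matrix.toLin'_apply, Matrix.toLin'_apply, Matrix.mulVec_mulVec, Matrix.mulVec_mulVec,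
        mul_assoc, Units.inv_mul, mul_one]
  have h2 : (LinearMap.ker (aeval (Matrix.toLin' M) P)).map (e : (Fin n → F) →ₗ[F] (Fin n → F)) =
      LinearMap.ker (aeval (Matrix.toLin' ((X : Matrix (Fin n) (Fin n) F) * M *
        ((X⁻¹ : GL (Fin n) F) : Matrix (Fin n) (Fin n) F))) P) := by
    ext w
    obtain ⟨v, rfl⟩ := e.surjective w
    rw [LinearMap.mem_ker, ← h1, map_eq_zero_iff _ e.injective]
    constructor
    · rintro ⟨u, hu, huv⟩
      rw [← e.injective huv]
      exact hu
    · intro hv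
      exact ⟨v, hv, rfl⟩
  rw [kerDim, kerDim, ← h2]
  exact (e.submoduleMap _).finrank_eq.symm

theorem tupOf_twist [Finite F] {n : ℕ} {g g' : GL (Fin n) F} {s : Multiset (F[X] × ℕ)} (ζ : Fˣ)
    (hs : IsDivData n s) (hg : HasDivData (g : Matrix (Fin n) (Fin n) F) s)
    (hg' : (g' : Matrix (Fin n) (Fin n) F) = (ζ : F) • (g : Matrix (Fin n) (Fin n) F))
    (hconj : IsConj g g') (k : Fin n) : twist ζ (tupOf n s k) = tupOf n s k := by
  classical
  obtain ⟨X, hX⟩ := isConj_iff.1 hconj
  have hker : ∀ f i, kerDim (g : Matrix (Fin n) (Fin n) F) (f ^ i) =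
      kerDim (g : Matrix (Fin n) (Fin n) F) (twist ζ f ^ i) := by
    intro f i
    rw [← kerDim_smul, ← hg', ← hX, Units.val_mul, Units.val_mul, kerDim_conj]
  have hcount : ∀ f, Irreducible f → f.Monic → ∀ e, s.count (f, e + 1) = s.count (twist ζ f, e + 1) :=
    fun f hf hm e => count_eq_of_kerDim hs hs hg hg hf hm (irreducible_twist hf) (monic_twist hm)
      (natDegree_twist ζ f).symm (hker f) e
  let τ : F[X] × ℕ → F[X] × ℕ := fun z => (twist ζ z.1, z.2)
  have hτ : Function.Injective τ := fun a b h => by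
    have h1 := congrArg Prod.fst h
    have h2 : a.2 = b.2 := (congrArg Prod.snd h : (τ a).2 = (τ b).2)
    exact Prod.ext (by rw [← twist_inv ζ a.1, show twist ζ a.1 = twist ζ b.1 from h1, twist_inv]) h2
  have hinvar : s.map τ = s := by
    refine Multiset.ext.2 fun w => ?_
    obtain ⟨v, rfl⟩ : ∃ v, τ v = w :=
      ⟨(twist ζ⁻¹ w.1, w.2), Prod.ext (by simpa using twist_inv ζ⁻¹ w.1) rfl⟩
    rw [Multiset.count_map_eq_count' _ _ hτ]
    by_cases h : v.1.Monic ∧ Irreducible v.1 ∧ 1 ≤ v.2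
    · obtain ⟨f, e⟩ := v
      obtain ⟨h1, h2, h3⟩ := h
      obtain ⟨e', rfl⟩ : ∃ e', e = e' + 1 := ⟨e - 1, by simp only at h3; omega⟩
      exact hcount f h2 h1 e'
    · rw [Multiset.count_eq_zero_of_notMem fun hm => h ⟨(hs.1 v hm).1, (hs.1 v hm).2.1, (hs.1 v hm).2.2.2.1⟩,
        Multiset.count_eq_zero_of_notMem fun hm => h ?_]
      obtain ⟨a, b, -, c, -⟩ := hs.1 _ hm
      have e1 : v.1 = twist ζ⁻¹ (τ v).1 := (twist_inv ζ v.1).symm
      exact ⟨e1 ▸ monic_twist a, e1 ▸ irreducible_twist b, c⟩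
  simp only [tupOf]
  rw [twist_multiset_prod ζ _ fun f hf => by
    obtain ⟨z, hz, rfl⟩ := Multiset.mem_map.mp hf
    exact (hs.1 z (Multiset.mem_of_mem_filter hz)).1.ne_zero]
  conv_rhs => rw [← hinvar]
  rw [Multiset.filter_map, Multiset.map_map, Multiset.map_map]
  rfl

end Cfsg.Agent.ClassBound
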