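import Cfsg.Agent.ClassBound.Count
import Cfsg.Agent.ClassBound.PSLTwo
import Cfsg.Agent.ClassBound.Unique
import Cfsg.Agent.Lib.LinearGroup.Card

/-!
The classes of `PSL_n(q)` by counting the classes of `SL_n(q)` fixed by central translations.
-/

set_option autoImplicit false

namespace Cfsg.Agent.ClassBound

open Polynomial Finset Cfsg.Agent.GLSemi

universe u

section Quotient

variable {G : Type u} [Group G]

/-- translation of classes by central elements -/
instance centerClassAction : MulAction (Subgroup.center G) (ConjClasses G) where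
  smul z := Quotient.map (fun g => (z : G) * g) fun a b hab => by
    obtain ⟨c, hc⟩ := isConj_iff.1 hab
    refine isConj_iff.2 ⟨c, ?_⟩
    rw [← hc, ← mul_assoc c (z : G), Subgroup.mem_center_iff.1 z.2 c]
    simp only [mul_assoc]
  one_smul := fun C => Quotient.inductionOn C fun g => congrArg (Quotient.mk _) (one_mul g)
  mul_smul := fun a b C => Quotient.inductionOn C fun g =>
    congrArg (Quotient.mk _) (mul_assoc (a : G) b g)

theorem smul_mk (z : Subgroup.center G) (g : G) :
    z • ConjClasses.mk g = ConjClasses.mk ((z : G) * g) := rfl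

/-- the classes of the quotient by the centre are the orbits of translations -/
theorem card_orbits_eq [Finite G] :
    Nat.card (Quotient (MulAction.orbitRel (Subgroup.center G) (ConjClasses G))) =
      Nat.card (ConjClasses (G ⧸ Subgroup.center G)) := by
  let π : ConjClasses G → ConjClasses (G ⧸ Subgroup.center G) :=
    ConjClasses.map (QuotientGroup.mk' (Subgroup.center G))
  have hπ : ∀ g, π (ConjClasses.mk g) = ConjClasses.mk (g : G ⧸ Subgroup.center G) := fun g => rfl
  have hiff : ∀ C D, π C = π D ↔ ∃ z : Subgroup.center G, z • D = C := by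
    intro C D
    induction C using Quotient.inductionOn with | _ g => ?_
    induction D using Quotient.inductionOn with | _ h => ?_
    show π (ConjClasses.mk g) = π (ConjClasses.mk h) ↔ ∃ z : Subgroup.center G, z • ConjClasses.mk h = ConjClasses.mk g
    simp only [hπ, smul_mk, ConjClasses.mk_eq_mk_iff_isConj]
    constructor
    · intro hgh
      obtain ⟨c, hc⟩ := isConj_iff.1 hgh
      obtain ⟨x, rfl⟩ := QuotientGroup.mk_surjective c
      rw [← QuotientGroup.mk_inv, ← QuotientGroup.mk_mul, ← QuotientGroup.mk_mul, eq_comm,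
        QuotientGroup.eq] at hc
      refine ⟨⟨h⁻¹ * (x * g * x⁻¹), hc⟩, isConj_iff.2 ⟨x⁻¹, ?_⟩⟩
      show x⁻¹ * ((h⁻¹ * (x * g * x⁻¹)) * h) * x⁻¹⁻¹ = g
      have hcen := Subgroup.mem_center_iff.1 hc h
      rw [← hcen]
      group
    · rintro ⟨z, hz⟩
      obtain ⟨c, hc⟩ := isConj_iff.1 hz
      refine isConj_iff.2 ⟨((c⁻¹ : G) : G ⧸ Subgroup.center G), ?_⟩
      rw [← hc, ← QuotientGroup.mk_inv, ← QuotientGroup.mk_mul, ← QuotientGroup.mk_mul, QuotientGroup.eq]
      have e : (c⁻¹ * (c * ((z : G) * h) * c⁻¹) * c⁻¹⁻¹)⁻¹ * h = (z : G)⁻¹ := by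
        have e2 : (c⁻¹ * (c * ((z : G) * h) * c⁻¹) * c⁻¹⁻¹) = (z : G) * h := by group
        have e3 := Subgroup.mem_center_iff.1 (inv_mem z.2) h
        rw [e2, mul_inv_rev, mul_assoc, ← e3, inv_mul_cancel_left]
      rw [e]
      exact inv_mem z.2
  refine Nat.card_congr (Equiv.ofBijective (Quotient.lift π fun C D h => (hiff C D).2 ?_) ⟨?_, ?_⟩)
  · obtain ⟨z, hz⟩ := h
    exact ⟨z, hz⟩
  · intro a b
    induction a using Quotient.inductionOn with | _ C => ?_
    induction b using Quotient.inductionOn with | _ D => ?_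
    intro h
    obtain ⟨z, hz⟩ := (hiff C D).1 h
    exact Quotient.sound ⟨z, hz⟩
  · intro c
    induction c using Quotient.inductionOn with | _ x => ?_
    obtain ⟨g, rfl⟩ := QuotientGroup.mk_surjective x
    exact ⟨Quotient.mk _ (ConjClasses.mk g), rfl⟩

theorem burnside_center [Fintype G] [Fintype (Subgroup.center G)] :
    Nat.card (Subgroup.center G) * Nat.card (ConjClasses (G ⧸ Subgroup.center G)) =
      ∑ z : Subgroup.center G, Nat.card {C : ConjClasses G // z • C = C} := by
  classical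
  have h := MulAction.sum_card_fixedBy_eq_card_orbits_mul_card_group (Subgroup.center G) (ConjClasses G)
  rw [← card_orbits_eq, Nat.card_eq_fintype_card, Nat.card_eq_fintype_card, mul_comm, ← h]
  refine sum_congr rfl fun z _ => ?_
  rw [← Nat.card_eq_fintype_card]
  rfl

end Quotient

variable {F : Type u} [Field F]

theorem coeff_eq_zero_of_twist {ζ : Fˣ} {a : F[X]} (h0 : a.coeff 0 ≠ 0) (h : twist ζ a = a) :
    orderOf ζ ∣ a.natDegree ∧ ∀ i, ¬ orderOf ζ ∣ i → a.coeff i = 0 := by
  have hz : ((ζ⁻¹ : Fˣ) : F) ^ a.natDegree = 1 := by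
    have h1 := congrArg (fun p : F[X] => p.coeff 0) h
    simp only [coeff_twist, pow_zero, mul_one] at h1
    exact mul_eq_right₀ h0 |>.1 h1
  have hd : orderOf ζ ∣ a.natDegree := by
    rw [← orderOf_inv]
    exact orderOf_dvd_of_pow_eq_one (Units.ext (by rw [Units.val_pow_eq_pow_val]; exact hz))
  refine ⟨hd, fun i hi => ?_⟩
  have h1 := congrArg (fun p : F[X] => p.coeff i) h
  simp only [coeff_twist, hz, one_mul] at h1
  by_contra hne
  refine hi (orderOf_dvd_of_pow_eq_one (Units.ext ?_))
  rw [Units.val_pow_eq_pow_val]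
  exact (mul_eq_left₀ hne).1 h1

variable [Fintype F]

/-- invariant tuples -/
def InvOne (ζ : Fˣ) (n : ℕ) : Set (Fin n → F[X]) :=
  {t | t ∈ DetOne F n ∧ ∀ k, twist ζ (t k) = t k}

/-- the total bound for one order -/
def fixBd (q n r : ℕ) : ℕ :=
  ∑ d ∈ (Icc 1 n).filter (fun d => r * d ∣ n), d.totient * q ^ (n / (r * d))

instance finite_invOne (ζ : Fˣ) (n : ℕ) : Finite (InvOne ζ n) :=
  Finite.of_injective (fun t : InvOne ζ n => (⟨t.1, t.2.1⟩ : DetOne F n))
    fun _ _ h => Subtype.ext (by simpa using h)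

theorem card_inv_divisible_le {ζ : Fˣ} {n d : ℕ} (hn : 0 < n) (hd : 0 < d) :
    Nat.card {t : InvOne ζ n // ∀ k, 0 < (t.1 k).natDegree → d ∣ (k : ℕ) + 1} ≤
      if orderOf ζ * d ∣ n then Fintype.card F ^ (n / (orderOf ζ * d)) else 0 := by
  classical
  set r := orderOf ζ with hr
  have hr0 : 0 < r := orderOf_pos ζ
  have hdvd : ∀ t : {t : InvOne ζ n // ∀ k, 0 < (t.1 k).natDegree → d ∣ (k : ℕ) + 1}, ∀ k : Fin n,
      r * d ∣ ((k : ℕ) + 1) * (t.1.1 k).natDegree := by
    intro t k
    rcases Nat.eq_zero_or_pos (t.1.1 k).natDegree with h0 | h0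
    · rw [h0, mul_zero]; exact dvd_zero _
    · rw [mul_comm r d]
      exact Nat.mul_dvd_mul (t.2 k h0) (coeff_eq_zero_of_twist (t.1.2.1.1.1 k).2 (t.1.2.2 k)).1
  split_ifs with h
  · haveI := (tup_bound (F := F) n (n / (r * d))).1
    obtain ⟨m, hm⟩ := h
    rcases Nat.eq_zero_or_pos m with rfl | hm0
    · omega
    have hnm : n / (r * d) = m := by rw [hm, Nat.mul_div_cancel_left _ (Nat.mul_pos hr0 hd)]
    refine le_trans ?_ (card_tupSet_le (F := F) (K := n) (n := n / (r * d)) (by omega))
    let idx : Fin n → ℕ := fun j => d * ((j : ℕ) + 1) - 1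
    let f : {t : InvOne ζ n // ∀ k, 0 < (t.1 k).natDegree → d ∣ (k : ℕ) + 1} → (Fin n → F[X]) :=
      fun t j => if h : idx j < n then Polynomial.contract r (t.1.1 ⟨idx j, h⟩) else 1
    have hexp : ∀ (t : {t : InvOne ζ n // ∀ k, 0 < (t.1 k).natDegree → d ∣ (k : ℕ) + 1}) k,
        expand F r (Polynomial.contract r (t.1.1 k)) = t.1.1 k := by
      intro t k
      ext i
      rw [coeff_expand hr0]
      split_ifs with hi
      · rw [coeff_contract hr0.ne', Nat.div_mul_cancel hi]
      · exact ((coeff_eq_zero_of_twist (t.1.2.1.1.1 k).2 (t.1.2.2 k)).2 i hi).symm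
    have hout : ∀ (t : {t : InvOne ζ n // ∀ k, 0 < (t.1 k).natDegree → d ∣ (k : ℕ) + 1}) (k : Fin n),
        ¬ d ∣ (k : ℕ) + 1 → t.1.1 k = 1 := fun t k hk =>
      (t.1.2.1.1.1 k).1.natDegree_eq_zero.1 (Nat.eq_zero_of_not_pos fun h => hk (t.2 k h))
    have hmem : ∀ t, f t ∈ TupSet F n (n / (r * d)) := by
      intro t
      refine ⟨fun j => ?_, ?_⟩
      · simp only [f]
        split_ifs with hj
        · obtain ⟨h1, h2⟩ := t.1.2.1.1.1 ⟨idx j, hj⟩
          refine ⟨?_, ?_⟩
          · rw [← hexp t ⟨idx j, hj⟩] at h1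
            exact (monic_expand_iff hr0).1 h1
          · rw [coeff_contract hr0.ne', zero_mul]; exact h2
        · simp
      · have hsum := t.1.2.1.1.2
        have hterm : ∀ j : Fin n, r * d * (((j : ℕ) + 1) * (f t j).natDegree) =
            if h : idx j < n then ((idx j) + 1) * (t.1.1 ⟨idx j, h⟩).natDegree else 0 := by
          intro j
          simp only [f]
          split_ifs with hj
          · conv_rhs => rw [← hexp t ⟨idx j, hj⟩, natDegree_expand]
            rw [show idx j + 1 = d * ((j : ℕ) + 1) from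
              Nat.sub_add_cancel (Nat.mul_pos hd (Nat.succ_pos _))]
            ring
          · rw [natDegree_one, mul_zero, mul_zero]
        refine Nat.eq_of_mul_eq_mul_left (Nat.mul_pos hr0 hd) ?_
        rw [mul_sum, sum_congr rfl fun j _ => hterm j, hnm, ← hm]
        conv_rhs => rw [← hsum]
        rw [← sum_filter_add_sum_filter_not univ (fun k : Fin n => d ∣ (k : ℕ) + 1)
          (fun k => ((k : ℕ) + 1) * (t.1.1 k).natDegree),
          sum_eq_zero (s := univ.filter fun k : Fin n => ¬ d ∣ (k : ℕ) + 1) fun k hk => by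
            rw [hout t k (mem_filter.1 hk).2, natDegree_one, mul_zero], add_zero,
          ← sum_filter_add_sum_filter_not univ (fun j : Fin n => idx j < n),
          sum_eq_zero (s := univ.filter fun j : Fin n => ¬ idx j < n) fun j hj => by
            rw [dif_neg (mem_filter.1 hj).2], add_zero]
        refine sum_bij' (fun j hj => (⟨idx j, (mem_filter.1 hj).2⟩ : Fin n))
          (fun k hk => (⟨((k : ℕ) + 1) / d - 1, by
            have := Nat.div_le_self ((k : ℕ) + 1) d
            have := Nat.div_pos (Nat.le_of_dvd (Nat.succ_pos _) (mem_filter.1 hk).2) hd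
            omega⟩ : Fin n)) ?_ ?_ ?_ ?_ ?_
        · intro j hj
          refine mem_filter.2 ⟨mem_univ _, ?_⟩
          show d ∣ idx j + 1
          rw [show idx j + 1 = d * ((j : ℕ) + 1) from
            Nat.sub_add_cancel (Nat.mul_pos hd (Nat.succ_pos _))]
          exact dvd_mul_right _ _
        · intro k hk
          obtain ⟨c, hc⟩ := (mem_filter.1 hk).2
          have hc0 : 0 < c := Nat.pos_of_ne_zero (by rintro rfl; simp at hc)
          refine mem_filter.2 ⟨mem_univ _, ?_⟩
          show d * (((k : ℕ) + 1) / d - 1 + 1) - 1 < n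
          rw [hc, Nat.mul_div_cancel_left _ hd, Nat.sub_add_cancel hc0, ← hc]
          omega
        · intro j hj
          refine Fin.ext ?_
          show (idx j + 1) / d - 1 = j
          rw [show idx j + 1 = d * ((j : ℕ) + 1) from
            Nat.sub_add_cancel (Nat.mul_pos hd (Nat.succ_pos _)), Nat.mul_div_cancel_left _ hd]
          rfl
        · intro k hk
          obtain ⟨c, hc⟩ := (mem_filter.1 hk).2
          have hc0 : 0 < c := Nat.pos_of_ne_zero (by rintro rfl; simp at hc)
          refine Fin.ext ?_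
          show d * (((k : ℕ) + 1) / d - 1 + 1) - 1 = k
          rw [hc, Nat.mul_div_cancel_left _ hd, Nat.sub_add_cancel hc0, ← hc]
          omega
        · intro j hj
          rw [dif_pos (mem_filter.1 hj).2]
    refine Nat.card_le_card_of_injective (fun t => (⟨f t, hmem t⟩ : TupSet F n (n / (r * d)))) ?_
    intro t t' h
    refine Subtype.ext (Subtype.ext (funext fun k => ?_))
    by_cases hk : d ∣ (k : ℕ) + 1
    · obtain ⟨c, hc⟩ := hk
      have hc0 : 0 < c := Nat.pos_of_ne_zero (by rintro rfl; simp at hc)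
      have hcn : c ≤ (k : ℕ) + 1 := hc ▸ Nat.le_mul_of_pos_left c hd
      have hi : idx ⟨c - 1, by omega⟩ = k := by
        show d * (c - 1 + 1) - 1 = k
        rw [Nat.sub_add_cancel hc0, ← hc]
        omega
      have h1 := congrFun (congrArg Subtype.val h) ⟨c - 1, by omega⟩
      simp only [f, hi, k.isLt, dif_pos] at h1
      rw [← hexp t k, ← hexp t' k, h1]
    · rw [hout t k hk, hout t' k hk]
  · haveI : IsEmpty {t : InvOne ζ n // ∀ k, 0 < (t.1 k).natDegree → d ∣ (k : ℕ) + 1} := ⟨fun t => h (by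
      conv_rhs => rw [← t.1.2.1.1.2]
      exact dvd_sum fun k _ => hdvd t k)⟩
    rw [Nat.card_of_isEmpty]

theorem sum_weight_inv_le {ζ : Fˣ} {n : ℕ} (hn : 0 < n) [Fintype (InvOne ζ n)] :
    ∑ t : InvOne ζ n, weight t.1 ≤ fixBd (Fintype.card F) n (orderOf ζ) := by
  classical
  calc ∑ t : InvOne ζ n, weight t.1
      ≤ ∑ t : InvOne ζ n, ∑ d ∈ Icc 1 n,
          if ∀ k, 0 < (t.1 k).natDegree → d ∣ (k : ℕ) + 1 then d.totient else 0 := by
        refine sum_le_sum fun t _ => ?_
        rw [← sum_filter]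
        conv_lhs => rw [← Nat.sum_totient (weight t.1)]
        refine sum_le_sum_of_subset fun d hd => ?_
        obtain ⟨hd1, hd2⟩ := Nat.mem_divisors.1 hd
        obtain ⟨k0, hk0⟩ : ∃ k, 0 < (t.1 k).natDegree := by
          by_contra hc
          push Not at hc
          have := t.2.1.1.2
          rw [sum_eq_zero fun k _ => by rw [Nat.le_zero.1 (hc k), mul_zero]] at this
          omega
        simp only [weight, Nat.dvd_gcd_iff, Finset.dvd_gcd_iff, mem_filter, mem_univ, true_and] at hd1
        refine mem_filter.2 ⟨mem_Icc.2 ⟨Nat.pos_of_mem_divisors hd, ?_⟩, hd1.2⟩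
        exact (Nat.le_of_dvd (Nat.succ_pos _) (hd1.2 k0 hk0)).trans k0.isLt
    _ = ∑ d ∈ Icc 1 n, d.totient *
          Nat.card {t : InvOne ζ n // ∀ k, 0 < (t.1 k).natDegree → d ∣ (k : ℕ) + 1} := by
        rw [sum_comm]
        refine sum_congr rfl fun d _ => ?_
        rw [← sum_filter, sum_const, smul_eq_mul, Nat.card_eq_fintype_card, Fintype.card_subtype, mul_comm]
    _ ≤ fixBd (Fintype.card F) n (orderOf ζ) := by
        rw [fixBd, sum_filter]
        refine sum_le_sum fun d hd => ?_
        refine (Nat.mul_le_mul_left _ (card_inv_divisible_le hn (mem_Icc.1 hd).1)).trans ?_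
        split_ifs <;> simp

theorem card_invOne_two {ζ : Fˣ} (hζ : ζ ≠ 1) [Fintype (InvOne ζ 2)] :
    ∑ t : InvOne ζ 2, weight t.1 ≤ 1 := by
  classical
  have hr : 2 ≤ orderOf ζ := by
    have h1 := orderOf_pos ζ
    have h2 : orderOf ζ ≠ 1 := fun h => hζ (orderOf_eq_one_iff.1 h)
    omega
  have hform : ∀ t : InvOne ζ 2, (t.1 0).natDegree = 2 ∧ t.1 1 = 1 ∧ (t.1 0).coeff 1 = 0 := by
    intro t
    have hs := t.2.1.1.2
    simp only [Fin.sum_univ_two, Fin.val_zero, Fin.val_one] at hs
    obtain ⟨h0d, h0c⟩ := coeff_eq_zero_of_twist (t.2.1.1.1 0).2 (t.2.2 0)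
    obtain ⟨h1d, -⟩ := coeff_eq_zero_of_twist (t.2.1.1.1 1).2 (t.2.2 1)
    have h1 : (t.1 1).natDegree = 0 := by
      by_contra hne
      have := Nat.le_of_dvd (Nat.pos_of_ne_zero hne) h1d
      omega
    exact ⟨by omega, (t.2.1.1.1 1).1.natDegree_eq_zero.1 h1,
      h0c 1 fun h => by have := Nat.le_of_dvd one_pos h; omega⟩
  haveI : Subsingleton (InvOne ζ 2) := ⟨fun t t' => by
    obtain ⟨a1, a2, a3⟩ := hform t
    obtain ⟨b1, b2, b3⟩ := hform t'
    have hp := t.2.1.2
    have hp' := t'.2.1.2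
    simp only [constProd, Fin.prod_univ_two, Fin.val_zero, Fin.val_one, a2, b2, coeff_one_zero,
      one_pow, mul_one, zero_add, pow_one] at hp hp'
    refine Subtype.ext (funext fun k => ?_)
    fin_cases k
    · show t.1 0 = t'.1 0
      rw [(t.2.1.1.1 0).1.as_sum, (t'.2.1.1.1 0).1.as_sum, a1, b1, sum_range_succ, sum_range_one,
        sum_range_succ, sum_range_one, a3, b3, hp, hp']
    · show t.1 1 = t'.1 1
      rw [a2, b2]⟩
  have hw : ∀ t : InvOne ζ 2, weight t.1 = 1 := by
    intro t
    refine Nat.dvd_one.1 ?_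
    refine (Nat.gcd_dvd_right _ _).trans ?_
    exact Finset.gcd_dvd (f := fun k : Fin 2 => (k : ℕ) + 1) (b := (0 : Fin 2))
      (mem_filter.2 ⟨mem_univ _, by rw [(hform t).1]; norm_num⟩)
  simp only [hw, sum_const, card_univ, smul_eq_mul, mul_one]
  exact Fintype.card_le_one_iff_subsingleton.2 inferInstance

/-- classes fixed by a central translation -/
theorem card_fixed_le {n : ℕ} (z : Subgroup.center (Matrix.SpecialLinearGroup (Fin n) F)) (ζ : Fˣ)
    (hz : ((z : Matrix.SpecialLinearGroup (Fin n) F) : Matrix (Fin n) (Fin n) F) = Matrix.scalar (Fin n) (ζ : F))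
    [Fintype (InvOne ζ n)] :
    Nat.card {C : ConjClasses (Matrix.SpecialLinearGroup (Fin n) F) // z • C = C} ≤
      ∑ t : InvOne ζ n, weight t.1 := by
  classical
  obtain ⟨Φ, hΦ, hspec⟩ := exists_class_injection (F := F) (n := n)
  have hinv : ∀ C : {C : ConjClasses (Matrix.SpecialLinearGroup (Fin n) F) // z • C = C},
      (Φ C.1).1.1 ∈ InvOne ζ n := by
    rintro ⟨C, hC⟩
    obtain ⟨g, s, rfl, hs, hgs, hts⟩ := hspec C
    refine ⟨(Φ (ConjClasses.mk g)).1.2, fun k => ?_⟩
    rw [smul_mk] at hC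
    have hc : IsConj g ((z : Matrix.SpecialLinearGroup (Fin n) F) * g) :=
      (ConjClasses.mk_eq_mk_iff_isConj.1 hC).symm
    rw [← hts]
    refine tupOf_twist (g := Matrix.SpecialLinearGroup.toGL g)
      (g' := Matrix.SpecialLinearGroup.toGL ((z : Matrix.SpecialLinearGroup (Fin n) F) * g)) ζ hs hgs ?_
      ((Matrix.SpecialLinearGroup.toGL).map_isConj hc) k
    show ((z : Matrix.SpecialLinearGroup (Fin n) F) * g : Matrix.SpecialLinearGroup (Fin n) F).1 = _
    rw [Matrix.SpecialLinearGroup.coe_mul, hz]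
    show Matrix.scalar (Fin n) (ζ : F) * (g : Matrix (Fin n) (Fin n) F) = (ζ : F) • (g : Matrix (Fin n) (Fin n) F)
    ext i j
    simp [Matrix.scalar_apply, Matrix.diagonal_mul]
  let Ψ : {C : ConjClasses (Matrix.SpecialLinearGroup (Fin n) F) // z • C = C} →
      Σ t : InvOne ζ n, Fˣ ⧸ (powMonoidHom (weight t.1) : Fˣ →* Fˣ).range :=
    fun C => ⟨⟨(Φ C.1).1.1, hinv C⟩, (Φ C.1).2⟩
  have hback : ∀ x : Σ t : InvOne ζ n, Fˣ ⧸ (powMonoidHom (weight t.1) : Fˣ →* Fˣ).range,
      ∀ y : Σ t : InvOne ζ n, Fˣ ⧸ (powMonoidHom (weight t.1) : Fˣ →* Fˣ).range, x = y →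
      (⟨⟨x.1.1, x.1.2.1⟩, x.2⟩ : Σ t : DetOne F n, Fˣ ⧸ (powMonoidHom (weight t.1) : Fˣ →* Fˣ).range) =
        ⟨⟨y.1.1, y.1.2.1⟩, y.2⟩ := by
    rintro x y rfl; rfl
  have hΨ : Function.Injective Ψ := fun C D h => Subtype.ext (hΦ (hback _ _ h))
  refine (Nat.card_le_card_of_injective Ψ hΨ).trans (le_of_eq ?_)
  rw [Nat.card_sigma]
  exact sum_congr rfl fun t _ => card_quot_pow (Nat.gcd_dvd_left _ _)

theorem totient_tables : Nat.totient 2 = 1 ∧ Nat.totient 3 = 2 ∧ Nat.totient 4 = 2 ∧
    Nat.totient 5 = 4 ∧ Nat.totient 6 = 2 := by decide +kernel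

theorem fixBd_small (q : ℕ) : fixBd q 3 3 = q ∧ fixBd q 4 2 = q ^ 2 + q ∧ fixBd q 4 4 = q ∧
    fixBd q 5 5 = q ∧ fixBd q 6 2 = q ^ 3 + 2 * q ∧ fixBd q 6 3 = q ^ 2 + q ∧ fixBd q 6 6 = q := by
  obtain ⟨t2, t3, t4, t5, t6⟩ := totient_tables
  refine ⟨?_, ?_, ?_, ?_, ?_, ?_, ?_⟩
  · rw [fixBd, show (Icc 1 3).filter (fun d => 3 * d ∣ 3) = {1} by decide]; simp
  · rw [fixBd, show (Icc 1 4).filter (fun d => 2 * d ∣ 4) = {1, 2} by decide]; simp [t2]
  · rw [fixBd, show (Icc 1 4).filter (fun d => 4 * d ∣ 4) = {1} by decide]; simp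
  · rw [fixBd, show (Icc 1 5).filter (fun d => 5 * d ∣ 5) = {1} by decide]; simp
  · rw [fixBd, show (Icc 1 6).filter (fun d => 2 * d ∣ 6) = {1, 3} by decide]; simp [t3]
  · rw [fixBd, show (Icc 1 6).filter (fun d => 3 * d ∣ 6) = {1, 2} by decide]; simp [t2]
  · rw [fixBd, show (Icc 1 6).filter (fun d => 6 * d ∣ 6) = {1} by decide]; simp

theorem fixBd_le {q n r : ℕ} (hq : 1 ≤ q) (hn : 0 < n) (hr : 2 ≤ r) :
    fixBd q n r ≤ n * q ^ (n / 2) := by
  calc fixBd q n r ≤ ∑ d ∈ (Icc 1 n).filter (fun d => r * d ∣ n), d.totient * q ^ (n / 2) := by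
        refine sum_le_sum fun d hd => Nat.mul_le_mul_left _ (Nat.pow_le_pow_right hq ?_)
        refine Nat.div_le_div_left ?_ two_pos
        have := (mem_Icc.1 (mem_filter.1 hd).1).1
        exact le_trans hr (Nat.le_mul_of_pos_right r this)
    _ ≤ ∑ d ∈ n.divisors, d.totient * q ^ (n / 2) := by
        refine sum_le_sum_of_subset fun d hd => Nat.mem_divisors.2 ⟨?_, hn.ne'⟩
        exact dvd_trans (dvd_mul_left d r) (mem_filter.1 hd).2
    _ = n * q ^ (n / 2) := by rw [← sum_mul, Nat.sum_totient]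

theorem fix_total_le {q n g : ℕ} (hq : 2 ≤ q) (hn : 3 ≤ n) (hgn : g ∣ n) (hgq : g ∣ q - 1) :
    ∑ r ∈ g.divisors.erase 1, r.totient * fixBd q n r ≤ 2 * q ^ (n - 2) := by
  have hg0 : 0 < g := Nat.pos_of_dvd_of_pos hgn (by omega)
  rcases Nat.lt_or_ge q 3 with hq3 | hq3
  · have : g = 1 := Nat.dvd_one.1 (by rwa [show q - 1 = 1 by omega] at hgq)
    simp [this]
  have hsub : g.divisors.erase 1 ⊆ n.divisors.erase 1 := fun r hr => by
    simp only [mem_erase] at hr ⊢
    exact ⟨hr.1, Nat.divisors_subset_of_dvd (by omega) hgn hr.2⟩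
  obtain ⟨b33, b42, b44, b55, b62, b63, b66⟩ := fixBd_small q
  obtain ⟨t2, t3, t4, t5, t6⟩ := totient_tables
  rcases Nat.lt_or_ge n 7 with h7 | h7
  · refine (sum_le_sum_of_subset hsub).trans ?_
    have hqq := Nat.mul_le_mul hq3 hq3
    interval_cases n
    · rw [show (3 : ℕ).divisors.erase 1 = {3} by decide +kernel, sum_singleton, t3, b33]; simp
    · rw [show (4 : ℕ).divisors.erase 1 = {2, 4} by decide +kernel, sum_insert (by decide), sum_singleton,
        t2, t4, b42, b44]
      norm_num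
      nlinarith
    · rw [show (5 : ℕ).divisors.erase 1 = {5} by decide +kernel, sum_singleton, t5, b55]
      norm_num
      nlinarith
    · rw [show (6 : ℕ).divisors.erase 1 = {2, 3, 6} by decide +kernel, sum_insert (by decide),
        sum_insert (by decide), sum_singleton, t2, t3, t6, b62, b63, b66]
      norm_num
      nlinarith [Nat.mul_le_mul hqq hq3, Nat.mul_le_mul hqq hqq]
  · have hstep : ∑ r ∈ g.divisors.erase 1, r.totient * fixBd q n r ≤ (g - 1) * (n * q ^ (n / 2)) := by
      calc ∑ r ∈ g.divisors.erase 1, r.totient * fixBd q n r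
          ≤ ∑ r ∈ g.divisors.erase 1, r.totient * (n * q ^ (n / 2)) := sum_le_sum fun r hr => by
            have h2 : 2 ≤ r := by
              have h1 := ne_of_mem_erase hr
              have h0 := Nat.pos_of_mem_divisors (mem_of_mem_erase hr)
              omega
            exact Nat.mul_le_mul_left _ (fixBd_le (by omega) (by omega) h2)
        _ = _ := by
            rw [← sum_mul]
            congr 1
            have := add_sum_erase g.divisors Nat.totient (Nat.one_mem_divisors.2 hg0.ne')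
            rw [Nat.sum_totient, Nat.totient_one] at this
            omega
    refine hstep.trans ?_
    set c := n - 2 - n / 2 with hc
    have key : ∀ k, 2 ≤ k → 2 * k + 4 ≤ 2 * 4 ^ (k - 1) ∧ 2 * k + 4 ≤ 2 * 3 ^ k := by
      intro k hk
      induction k, hk using Nat.le_induction with
      | base => norm_num
      | succ k hk ih =>
        obtain ⟨i1, i2⟩ := ih
        constructor
        · rw [show k + 1 - 1 = k - 1 + 1 by omega, pow_succ]; omega
        · rw [pow_succ]; omega
    have hmain : (g - 1) * n ≤ 2 * q ^ c := by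
      obtain ⟨k1, k2⟩ := key c (by omega)
      have hn' : n ≤ 2 * c + 4 := by omega
      rcases Nat.lt_or_ge q 4 with h4 | h4
      · obtain rfl : q = 3 := by omega
        have : g - 1 ≤ 1 := by have := Nat.le_of_dvd (by norm_num) hgq; omega
        calc (g - 1) * n ≤ 1 * n := Nat.mul_le_mul_right _ this
          _ ≤ 2 * 3 ^ c := by omega
      · have h1 : g - 1 ≤ q := by have := Nat.le_of_dvd (by omega) hgq; omega
        have h2 : n ≤ 2 * q ^ (c - 1) :=
          (hn'.trans k1).trans (Nat.mul_le_mul_left 2 (Nat.pow_le_pow_left h4 _))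
        calc (g - 1) * n ≤ q * (2 * q ^ (c - 1)) := Nat.mul_le_mul h1 h2
          _ = 2 * q ^ c := by rw [mul_left_comm, ← pow_succ']; congr 2; omega
    calc (g - 1) * (n * q ^ (n / 2)) = (g - 1) * n * q ^ (n / 2) := by ring
      _ ≤ 2 * q ^ c * q ^ (n / 2) := Nat.mul_le_mul_right _ hmain
      _ = 2 * q ^ (n - 2) := by rw [mul_assoc, ← pow_add]; congr 2; omega

/-- the upper bound for the projective group -/
theorem center_mul_classes_le {n : ℕ} (hn : 2 ≤ n) :
    Nat.card (Subgroup.center (Matrix.SpecialLinearGroup (Fin n) F)) *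
        Nat.card (ConjClasses (Matrix.ProjectiveSpecialLinearGroup (Fin n) F)) ≤
      Fintype.card F ^ (n - 1) + 5 * Fintype.card F ^ (n - 2) := by
  classical
  haveI : NeZero n := ⟨by omega⟩
  set Z := Subgroup.center (Matrix.SpecialLinearGroup (Fin n) F) with hZ
  haveI : Fintype (Matrix.SpecialLinearGroup (Fin n) F) := Fintype.ofFinite _
  haveI : Fintype Z := Fintype.ofFinite _
  have hscalar : ∀ z : Z, ∃ ζ : Fˣ,
      ((z : Matrix.SpecialLinearGroup (Fin n) F) : Matrix (Fin n) (Fin n) F) = Matrix.scalar (Fin n) (ζ : F) := by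
    intro z
    obtain ⟨c, hc, hcz⟩ := Matrix.SpecialLinearGroup.mem_center_iff.1 z.2
    refine ⟨Units.mk0 c ?_, hcz.symm⟩
    rintro rfl
    rw [Fintype.card_fin, zero_pow (by omega)] at hc
    exact zero_ne_one hc
  choose ζ hζ using hscalar
  have hinj : Function.Injective ζ := fun a b h =>
    Subtype.ext (Subtype.ext (by rw [hζ a, hζ b, h]))
  let φ : Z →* Fˣ := MonoidHom.mk' ζ fun a b => Units.ext (by
    have h := hζ (a * b)
    rw [Subgroup.coe_mul, Matrix.SpecialLinearGroup.coe_mul, hζ a, hζ b, ← map_mul] at h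
    exact (Matrix.scalar_inj.1 h).symm)
  have hcyc : IsCyclic Z := isCyclic_of_injective φ hinj
  have hord : ∀ z : Z, orderOf (ζ z) = orderOf z := fun z => orderOf_injective φ hinj z
  show Nat.card Z * Nat.card (ConjClasses (Matrix.SpecialLinearGroup (Fin n) F ⧸ Z)) ≤ _
  rw [burnside_center, ← add_sum_erase _ _ (mem_univ (1 : Z))]
  have h1 : Nat.card {C : ConjClasses (Matrix.SpecialLinearGroup (Fin n) F) // (1 : Z) • C = C} ≤
      Nat.card (ConjClasses (Matrix.SpecialLinearGroup (Fin n) F)) := Finite.card_subtype_le _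
  have hne : ∀ z ∈ (univ : Finset Z).erase 1, ζ z ≠ 1 := fun z hz h =>
    ne_of_mem_erase hz (hinj (h.trans (map_one φ).symm))
  have hcardZ : Nat.card Z = Nat.gcd n (Fintype.card F - 1) := by
    rw [hZ, LinearGroup.card_center_SL, Nat.card_eq_fintype_card]
    simp
  rcases eq_or_ne n 2 with rfl | hn2
  · have hsum : ∑ z ∈ (univ : Finset Z).erase 1,
        Nat.card {C : ConjClasses (Matrix.SpecialLinearGroup (Fin 2) F) // z • C = C} ≤ 1 := by
      refine (sum_le_sum (g := fun _ => 1) fun z hz => ?_).trans ?_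
      · haveI := Fintype.ofFinite (InvOne (ζ z) 2)
        exact (card_fixed_le z (ζ z) (hζ z)).trans (card_invOne_two (hne z hz))
      · rw [sum_const, smul_eq_mul, mul_one, card_erase_of_mem (mem_univ _), card_univ,
          ← Nat.card_eq_fintype_card, hcardZ]
        have := Nat.le_of_dvd two_pos (Nat.gcd_dvd_left 2 (Fintype.card F - 1))
        omega
    have h2 := card_classes_SL_two_le_add (F := F)
    simp only [Nat.add_one_sub_one, Nat.sub_self, pow_one, pow_zero] at h1 hsum ⊢
    omega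
  · have h3 := card_classes_SL_le (F := F) (n := n) (by omega)
    have hsum : ∑ z ∈ (univ : Finset Z).erase 1,
        Nat.card {C : ConjClasses (Matrix.SpecialLinearGroup (Fin n) F) // z • C = C} ≤
        2 * Fintype.card F ^ (n - 2) := by
      refine (sum_le_sum (g := fun z => fixBd (Fintype.card F) n (orderOf z)) fun z _ => ?_).trans ?_
      · haveI := Fintype.ofFinite (InvOne (ζ z) n)
        rw [← hord]
        exact (card_fixed_le z (ζ z) (hζ z)).trans (sum_weight_inv_le (by omega))
      · refine le_trans (le_of_eq ?_) (fix_total_le (g := Fintype.card Z) Fintype.one_lt_card (by omega) ?_ ?_)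
        · rw [← sum_fiberwise_of_maps_to (t := (Fintype.card Z).divisors.erase 1)
            (g := fun z : Z => orderOf z) (fun z hz => ?_)]
          · refine sum_congr rfl fun r hr => ?_
            rw [sum_congr rfl (g := fun _ => fixBd (Fintype.card F) n r) fun z hz => by
              rw [(mem_filter.1 hz).2], sum_const, smul_eq_mul]
            congr 1
            rw [← IsCyclic.card_orderOf_eq_totient (α := Z) (Nat.dvd_of_mem_divisors (mem_of_mem_erase hr))]
            congr 1
            ext z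
            simp only [mem_filter, mem_erase, mem_univ, true_and, and_true, and_iff_right_iff_imp]
            intro hz h1
            exact ne_of_mem_erase hr (by rw [← hz, h1, orderOf_one])
          · exact mem_erase.2 ⟨fun h => ne_of_mem_erase hz (orderOf_eq_one_iff.1 h),
              Nat.mem_divisors.2 ⟨orderOf_dvd_card, Fintype.card_ne_zero⟩⟩
        · rw [← Nat.card_eq_fintype_card, hcardZ]; exact Nat.gcd_dvd_left _ _
        · rw [← Nat.card_eq_fintype_card, hcardZ]; exact Nat.gcd_dvd_right _ _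
    omega

/-- the lower bound for the projective group -/
theorem classes_le_center_mul {n : ℕ} :
    Nat.card (ConjClasses (Matrix.SpecialLinearGroup (Fin n) F)) ≤
      Nat.card (Subgroup.center (Matrix.SpecialLinearGroup (Fin n) F)) *
        Nat.card (ConjClasses (Matrix.ProjectiveSpecialLinearGroup (Fin n) F)) := by
  classical
  show _ ≤ Nat.card _ * Nat.card (ConjClasses (Matrix.SpecialLinearGroup (Fin n) F ⧸ _))
  rw [← card_orbits_eq, ← Nat.card_prod]
  let out : Quotient (MulAction.orbitRel (Subgroup.center (Matrix.SpecialLinearGroup (Fin n) F))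
      (ConjClasses (Matrix.SpecialLinearGroup (Fin n) F))) → _ := Quotient.out
  refine Nat.card_le_card_of_surjective (fun p => p.1 • out p.2) fun C => ?_
  obtain ⟨z, hz⟩ : C ∈ MulAction.orbit (Subgroup.center (Matrix.SpecialLinearGroup (Fin n) F))
      (out (Quotient.mk _ C)) :=
    MulAction.orbitRel_apply.1 (Quotient.exact (Quotient.out_eq (Quotient.mk (MulAction.orbitRel _ _) C)).symm)
  exact ⟨(z, Quotient.mk _ C), hz⟩

end Cfsg.Agent.ClassBound
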