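import Mathlib

/-!
Weighted count of the elements of a p-subgroup of a symmetric group: sum over u of c ^ (number of cycles of u).
-/

set_option autoImplicit false

namespace Cfsg.Agent.ClassBound

open MulAction

/-- number of cycles (fixed points included) -/
noncomputable def cyc {X : Type*} (f : Equiv.Perm X) : ℕ :=
  Nat.card (orbitRel.Quotient (Subgroup.zpowers f) X)

/-- number of cycles of the action of a group element -/
noncomputable def cycA {H : Type*} [Group H] (X : Type*) [MulAction H X] (u : H) : ℕ :=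
  cyc (MulAction.toPermHom H X u)

/-- number of orbits -/
noncomputable def norb (H : Type*) [Group H] (X : Type*) [MulAction H X] : ℕ :=
  Nat.card (orbitRel.Quotient H X)

lemma cyc_rel {X : Type*} (f : Equiv.Perm X) (x y : X) :
    orbitRel (Subgroup.zpowers f) X x y ↔ ∃ i : ℤ, (f ^ i) y = x := by
  rw [orbitRel_apply, mem_orbit_iff]
  constructor
  · rintro ⟨⟨g, i, rfl⟩, hg⟩
    exact ⟨i, hg⟩
  · rintro ⟨i, hi⟩
    exact ⟨⟨f ^ i, i, rfl⟩, hi⟩

lemma cyc_one {X : Type*} : cyc (1 : Equiv.Perm X) = Nat.card X := by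
  apply Nat.card_congr
  refine Equiv.ofBijective (fun q => Quotient.liftOn' q id ?_) ⟨?_, ?_⟩
  · intro a b h
    obtain ⟨i, hi⟩ := (cyc_rel 1 a b).1 h
    simpa using hi.symm
  · intro a b
    induction a using Quotient.inductionOn'
    induction b using Quotient.inductionOn'
    intro h
    simp only [Quotient.liftOn'_mk'', id_eq] at h
    rw [h]
  · intro x
    exact ⟨Quotient.mk'' x, rfl⟩

lemma cyc_le_card {X : Type*} [Finite X] (f : Equiv.Perm X) : cyc f ≤ Nat.card X :=
  Nat.card_le_card_of_surjective (fun x => Quotient.mk'' x) Quotient.mk''_surjective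

/-- if the first p points of each cycle are distinct there are at most card / p cycles -/
lemma cyc_mul_le {X : Type*} [Finite X] (f : Equiv.Perm X) (p : ℕ)
    (h : ∀ (x : X) (i j : ℕ), i < p → j < p → (f ^ i) x = (f ^ j) x → i = j) :
    cyc f * p ≤ Nat.card X := by
  let F : orbitRel.Quotient (Subgroup.zpowers f) X × Fin p → X :=
    fun q => (f ^ (q.2 : ℕ)) q.1.out
  have hF : Function.Injective F := by
    rintro ⟨a, i⟩ ⟨b, j⟩ he
    simp only [F] at he
    have hab : a = b := by
      rw [← Quotient.out_eq' a, ← Quotient.out_eq' b]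
      refine Quotient.eq''.2 ((cyc_rel f _ _).2 ⟨-(i : ℤ) + (j : ℕ), ?_⟩)
      rw [zpow_add, Equiv.Perm.mul_apply, zpow_natCast, ← he, zpow_neg, zpow_natCast]
      exact Equiv.symm_apply_apply _ _
    subst hab
    exact Prod.ext rfl (Fin.ext (h _ _ _ i.2 j.2 he))
  have := Nat.card_le_card_of_injective F hF
  rwa [Nat.card_prod, Nat.card_fin] at this

section Split

variable {H : Type*} [Group H] {X : Type*} [MulAction H X] (A : SubMulAction H X)

/-- the complementary invariant set -/
def compl' : SubMulAction H X where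
  carrier := {x | x ∉ A}
  smul_mem' := fun h _ hx hh => hx (by simpa using A.smul_mem h⁻¹ hh)

lemma toPerm_zpow_apply (u : H) (i : ℤ) (x : X) :
    (MulAction.toPermHom H X u ^ i) x = (u ^ i) • x := by
  rw [← map_zpow]; rfl

lemma cycA_split [Finite X] (u : H) : cycA X u ≤ cycA A u + cycA (compl' A) u := by
  classical
  unfold cycA cyc
  rw [← Nat.card_sum]
  refine Nat.card_le_card_of_surjective (Sum.elim
    (fun q => Quotient.liftOn' q (fun a => Quotient.mk'' (a : X)) ?_)
    (fun q => Quotient.liftOn' q (fun a => Quotient.mk'' (a : X)) ?_)) ?_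
  · intro a b hab
    obtain ⟨i, hi⟩ := (cyc_rel _ _ _).1 hab
    refine Quotient.eq''.2 ((cyc_rel _ _ _).2 ⟨i, ?_⟩)
    rw [toPerm_zpow_apply] at hi ⊢
    rw [← SubMulAction.val_smul, hi]
  · intro a b hab
    obtain ⟨i, hi⟩ := (cyc_rel _ _ _).1 hab
    refine Quotient.eq''.2 ((cyc_rel _ _ _).2 ⟨i, ?_⟩)
    rw [toPerm_zpow_apply] at hi ⊢
    rw [← SubMulAction.val_smul, hi]
  · intro q
    induction q using Quotient.inductionOn' with
    | h x =>
      by_cases hx : x ∈ A
      · exact ⟨Sum.inl (Quotient.mk'' ⟨x, hx⟩), rfl⟩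
      · exact ⟨Sum.inr (Quotient.mk'' ⟨x, hx⟩), rfl⟩

lemma norb_split [Finite X] : norb H X ≤ norb H A + norb H (compl' A) := by
  classical
  unfold norb
  rw [← Nat.card_sum]
  refine Nat.card_le_card_of_surjective (Sum.elim
    (fun q => Quotient.liftOn' q (fun a => Quotient.mk'' (a : X)) ?_)
    (fun q => Quotient.liftOn' q (fun a => Quotient.mk'' (a : X)) ?_)) ?_
  · rintro a b ⟨g, hg⟩
    exact Quotient.eq''.2 ⟨g, by simpa using congrArg Subtype.val hg⟩
  · rintro a b ⟨g, hg⟩
    exact Quotient.eq''.2 ⟨g, by simpa using congrArg Subtype.val hg⟩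
  · intro q
    induction q using Quotient.inductionOn' with
    | h x =>
      by_cases hx : x ∈ A
      · exact ⟨Sum.inl (Quotient.mk'' ⟨x, hx⟩), rfl⟩
      · exact ⟨Sum.inr (Quotient.mk'' ⟨x, hx⟩), rfl⟩

lemma card_split [Finite X] : Nat.card A + Nat.card (compl' A) = Nat.card X := by
  classical
  rw [← Nat.card_sum]
  exact Nat.card_congr (Equiv.sumCompl (fun x => x ∈ A))

/-- the joint restriction map -/
def restrictHom : H →* Equiv.Perm A × Equiv.Perm (compl' A) :=
  (MulAction.toPermHom H A).prod (MulAction.toPermHom H (compl' A))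

lemma restrictHom_inj (hinj : Function.Injective (MulAction.toPermHom H X)) :
    Function.Injective (restrictHom A) := by
  intro g h he
  have h1 := congrArg Prod.fst he
  have h2 := congrArg Prod.snd he
  refine hinj (Equiv.ext fun x => ?_)
  by_cases hx : x ∈ A
  · have := congrArg Subtype.val (Equiv.congr_fun h1 ⟨x, hx⟩)
    exact this
  · have := congrArg Subtype.val (Equiv.congr_fun h2 ⟨x, hx⟩)
    exact this

end Split

/-- the weight of a group of permutations -/
noncomputable def wt {X : Type*} (c : ℝ) (P : Subgroup (Equiv.Perm X)) : ℝ :=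
  ∑ᶠ u : P, c ^ cyc (u : Equiv.Perm X)

lemma norb_range {H : Type*} [Group H] (X : Type*) [MulAction H X] [Finite X] :
    norb (MulAction.toPermHom H X).range X = norb H X := by
  unfold norb
  refine Nat.card_congr (Quotient.congr (Equiv.refl X) fun a b => ?_)
  simp only [Equiv.refl_apply]
  constructor
  · rintro ⟨⟨g, h, rfl⟩, hg⟩
    exact ⟨h, hg⟩
  · rintro ⟨h, hh⟩
    exact ⟨⟨_, h, rfl⟩, hh⟩

/-- the inductive bound for p-groups -/
theorem pgroup_bound (p : ℕ) (hp : p.Prime) (c x : ℝ) (hc : 1 ≤ c) (hx : 0 ≤ x)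
    (hkey : ∀ m n : ℕ, 1 ≤ m → n ^ (p - 1) ≤ p ^ (p * (m - 1)) →
      (n : ℝ) * c ^ m ≤ c ^ (p * m) * (1 + x) ^ (p * (m - 1)) * x) :
    ∀ (d : ℕ) {X : Type} [Finite X] (P : Subgroup (Equiv.Perm X)), Nat.card X = d →
      IsPGroup p P →
      (Nat.card P) ^ (p - 1) ≤ p ^ (d - norb P X) ∧
      wt c P ≤ c ^ d * (1 + x) ^ (d - norb P X) := by
  intro d
  induction d using Nat.strong_induction_on with
  | _ d IH =>
  intro X _ P hd hP
  classical
  haveI := Fact.mk hp
  have hc0 : (0:ℝ) ≤ c := le_trans zero_le_one hc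
  have h1x : (1:ℝ) ≤ 1 + x := by linarith
  haveI : Fintype X := Fintype.ofFinite X
  -- reduction along an invariant splitting, for any subgroup
  have split : ∀ (Q : Subgroup (Equiv.Perm X)), IsPGroup p Q → ∀ A : SubMulAction Q X,
      0 < Nat.card A → 0 < Nat.card (compl' A) →
      (Nat.card Q) ^ (p - 1) ≤ p ^ (d - norb Q X) ∧
      wt c Q ≤ c ^ d * (1 + x) ^ (d - norb Q X) := by
    intro Q hQ A hA hB
    have hinj : Function.Injective (MulAction.toPermHom Q X) := fun a b h => Subtype.ext h
    have hrinj := restrictHom_inj A hinj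
    have hcs := card_split A
    have hlA : Nat.card A < d := by omega
    have hlB : Nat.card (compl' A) < d := by omega
    let QA := (MulAction.toPermHom Q A).range
    let QB := (MulAction.toPermHom Q (compl' A)).range
    have hQA : IsPGroup p QA := hQ.of_surjective _ (MonoidHom.rangeRestrict_surjective _)
    have hQB : IsPGroup p QB := hQ.of_surjective _ (MonoidHom.rangeRestrict_surjective _)
    obtain ⟨cA, wA⟩ := IH _ hlA QA rfl hQA
    obtain ⟨cB, wB⟩ := IH _ hlB QB rfl hQB
    rw [norb_range] at cA wA cB wB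
    let j : Q → QA × QB := fun u => (⟨_, ⟨u, rfl⟩⟩, ⟨_, ⟨u, rfl⟩⟩)
    have hj : Function.Injective j := fun a b h => hrinj (Prod.ext
      (congrArg Subtype.val (congrArg Prod.fst h)) (congrArg Subtype.val (congrArg Prod.snd h)))
    have horb := norb_split A
    have hoA : norb Q A ≤ Nat.card A :=
      Nat.card_le_card_of_surjective (fun a => Quotient.mk'' a) Quotient.mk''_surjective
    have hoB : norb Q (compl' A) ≤ Nat.card (compl' A) :=
      Nat.card_le_card_of_surjective (fun a => Quotient.mk'' a) Quotient.mk''_surjective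
    have hexp : (Nat.card A - norb Q A) + (Nat.card (compl' A) - norb Q (compl' A))
        ≤ d - norb Q X := by omega
    constructor
    · have := Nat.card_le_card_of_injective j hj
      rw [Nat.card_prod] at this
      calc (Nat.card Q) ^ (p - 1) ≤ (Nat.card QA * Nat.card QB) ^ (p - 1) :=
            Nat.pow_le_pow_left this _
        _ = Nat.card QA ^ (p - 1) * Nat.card QB ^ (p - 1) := mul_pow _ _ _
        _ ≤ p ^ (Nat.card A - norb Q A) * p ^ (Nat.card (compl' A) - norb Q (compl' A)) :=
            Nat.mul_le_mul cA cB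
        _ = p ^ ((Nat.card A - norb Q A) + (Nat.card (compl' A) - norb Q (compl' A))) :=
            (pow_add _ _ _).symm
        _ ≤ p ^ (d - norb Q X) := Nat.pow_le_pow_right hp.pos hexp
    · let g : QA × QB → ℝ := fun q => c ^ cyc (q.1 : Equiv.Perm A) * c ^ cyc (q.2 : Equiv.Perm (compl' A))
      calc wt c Q = ∑ u : Q, c ^ cyc (u : Equiv.Perm X) := finsum_eq_sum_of_fintype _
        _ ≤ ∑ u : Q, g (j u) := by
            refine Finset.sum_le_sum fun u _ => ?_
            simp only [g, j, ← pow_add]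
            exact pow_le_pow_right₀ hc (cycA_split A u)
        _ = ∑ q ∈ Finset.univ.image j, g q :=
            (Finset.sum_image fun a _ b _ h => hj h).symm
        _ ≤ ∑ q : QA × QB, g q := Finset.sum_le_sum_of_subset_of_nonneg (Finset.subset_univ _)
            fun q _ _ => mul_nonneg (pow_nonneg hc0 _) (pow_nonneg hc0 _)
        _ = wt c QA * wt c QB := by
            rw [wt, wt, finsum_eq_sum_of_fintype, finsum_eq_sum_of_fintype, Finset.sum_mul_sum,
              ← Finset.sum_product']
            rfl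
        _ ≤ (c ^ Nat.card A * (1 + x) ^ (Nat.card A - norb Q A)) *
              (c ^ Nat.card (compl' A) * (1 + x) ^ (Nat.card (compl' A) - norb Q (compl' A))) := by
            refine mul_le_mul wA wB ?_ (by positivity)
            exact finsum_nonneg fun u => pow_nonneg hc0 _
        _ = c ^ d * (1 + x) ^ ((Nat.card A - norb Q A) + (Nat.card (compl' A) - norb Q (compl' A))) := by
            rw [← hcs] at hd
            rw [← hd, pow_add, pow_add]; ring
        _ ≤ c ^ d * (1 + x) ^ (d - norb Q X) :=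
            mul_le_mul_of_nonneg_left (pow_le_pow_right₀ h1x hexp) (pow_nonneg hc0 _)
  by_cases htriv : P = ⊥
  · subst htriv
    refine ⟨by simp [Nat.one_le_iff_ne_zero, hp.ne_zero], ?_⟩
    rw [wt, finsum_eq_sum_of_fintype, Fintype.sum_eq_single 1]
    · rw [Subgroup.coe_one, cyc_one, hd]
      exact le_mul_of_one_le_right (pow_nonneg hc0 _) (one_le_pow₀ h1x)
    · intro b hb; exact absurd (Subsingleton.elim b 1) hb
  obtain ⟨a, g, hg⟩ : ∃ (a : X) (g : P), (g : Equiv.Perm X) a ≠ a := by
    by_contra hcon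
    push Not at hcon
    exact htriv ((Subgroup.eq_bot_iff_forall P).2 fun g hg => Equiv.ext fun a => hcon a ⟨g, hg⟩)
  let O : SubMulAction P X :=
    { carrier := orbit P a
      smul_mem' := fun h y hy => by
        obtain ⟨k, rfl⟩ := hy
        exact ⟨h * k, mul_smul h k a⟩ }
  by_cases hfull : ∀ y : X, y ∈ orbit P a
  swap
  · push Not at hfull
    obtain ⟨y, hy⟩ := hfull
    refine split P hP O ?_ ?_
    · exact Nat.card_pos_iff.2 ⟨⟨⟨a, mem_orbit_self a⟩⟩, inferInstance⟩
    · exact Nat.card_pos_iff.2 ⟨⟨⟨y, hy⟩⟩, inferInstance⟩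
  -- transitive case
  haveI : IsPretransitive P X := ⟨fun y z => by
    obtain ⟨k, hk⟩ := hfull y
    obtain ⟨l, hl⟩ := hfull z
    exact ⟨l * k⁻¹, by
      rw [← hk, mul_smul]
      change l • k⁻¹ • (k • a) = z
      rw [inv_smul_smul]; exact hl⟩⟩
  let S := stabilizer P a
  have hSd : S.index = d := by
    rw [index_stabilizer_of_transitive, hd]
  have hSne : S ≠ ⊤ := fun h => hg (by
    have : g ∈ S := h ▸ Subgroup.mem_top g
    exact this)
  obtain ⟨N, hNc, hSN⟩ := (eq_top_or_exists_le_coatom S).resolve_left hSne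
  haveI : Group.IsNilpotent P := hP.isNilpotent
  haveI hNn : N.Normal := Subgroup.NormalizerCondition.normal_of_coatom N Group.normalizerCondition_of_isNilpotent hNc
  have hNi : N.index = p := by
    obtain ⟨k, hk⟩ := hP.index N
    have hk0 : k ≠ 0 := by
      rintro rfl
      exact hNc.1 (Subgroup.index_eq_one.1 (by simpa using hk))
    have hcQ : Nat.card (P ⧸ N) = p ^ k := hk
    obtain ⟨K, hK⟩ := Sylow.exists_subgroup_card_pow_prime (G := P ⧸ N) p (n := k - 1)
      (hcQ ▸ pow_dvd_pow p (Nat.sub_le k 1))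
    rcases hNc.le_iff.1 (QuotientGroup.le_comap_mk' N K) with h | h
    · have : K = ⊤ := by
        apply Subgroup.comap_injective (QuotientGroup.mk'_surjective N)
        rw [h, Subgroup.comap_top]
      rw [this, Subgroup.card_top, hcQ] at hK
      have := Nat.pow_right_injective hp.two_le hK
      omega
    · have : K = ⊥ := by
        apply Subgroup.comap_injective (QuotientGroup.mk'_surjective N)
        rw [h, MonoidHom.comap_bot, QuotientGroup.ker_mk']
      rw [this, Subgroup.card_bot] at hK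
      have : k - 1 = 0 := Nat.pow_right_injective hp.two_le (by simpa using hK.symm)
      rw [hk, show k = 1 by omega, pow_one]
  obtain ⟨m, hm, hdm⟩ : ∃ m, 1 ≤ m ∧ d = p * m := by
    refine ⟨S.relIndex N, Nat.one_le_iff_ne_zero.2 Subgroup.index_ne_zero_of_finite, ?_⟩
    rw [← hSd, ← hNi, mul_comm, Subgroup.relIndex_mul_index hSN]
  -- the orbits of N
  have stabN : ∀ (y : X) (h : P), (∃ n ∈ N, n • y = h • y) → h ∈ N := by
    rintro y h ⟨n, hn, he⟩
    obtain ⟨k, rfl⟩ := exists_smul_eq P a y
    have h2 : k⁻¹ * (n⁻¹ * h) * k ∈ S := by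
      show (k⁻¹ * (n⁻¹ * h) * k) • a = a
      rw [mul_smul, mul_smul, mul_smul, ← he, inv_smul_smul, inv_smul_smul]
    have h3 : n⁻¹ * h ∈ N := by
      have := hNn.conj_mem _ (hSN h2) k
      simpa [mul_assoc] using this
    simpa using N.mul_mem hn h3
  let NX : Subgroup (Equiv.Perm X) := N.map P.subtype
  have hNXp : IsPGroup p NX := hP.to_le (Subgroup.map_subtype_le N)
  have hmemNX : ∀ h : P, (h : Equiv.Perm X) ∈ NX ↔ h ∈ N := fun h => by
    simp [NX, Subgroup.mem_map]
  -- orbit count
  have hnorbP : norb P X = 1 := by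
    unfold norb
    rw [Nat.card_eq_one_iff_unique]
    refine ⟨⟨fun u v => ?_⟩, ⟨Quotient.mk'' a⟩⟩
    induction u using Quotient.inductionOn'
    induction v using Quotient.inductionOn'
    exact Quotient.eq''.2 (exists_smul_eq P _ _)
  have hnorbN : p ≤ norb NX X := by
    have hcard : Nat.card (P ⧸ N) = p := hNi
    rw [← hcard]
    refine Nat.card_le_card_of_injective
      (fun q : P ⧸ N => (Quotient.mk'' (q.out • a) : orbitRel.Quotient NX X)) ?_
    intro u v he
    obtain ⟨⟨n, hn⟩, hne⟩ := Quotient.eq''.1 he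
    obtain ⟨n, hnN, rfl⟩ := Subgroup.mem_map.1 hn
    have hne' : n • (v.out • a) = u.out • a := hne
    have h2 : u.out * (v.out)⁻¹ ∈ N := stabN (v.out • a) _ ⟨n, hnN, by
      rw [mul_smul, inv_smul_smul, hne']⟩
    rw [← QuotientGroup.out_eq' u, ← QuotientGroup.out_eq' v]
    refine QuotientGroup.eq.2 ?_
    exact hNn.mem_comm (by simpa using N.inv_mem h2)
  let ON : SubMulAction NX X :=
    { carrier := orbit NX a
      smul_mem' := fun h y hy => by
        obtain ⟨k, rfl⟩ := hy
        exact ⟨h * k, mul_smul h k a⟩ }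
  have hBpos : 0 < Nat.card (compl' ON) := by
    refine Nat.card_pos_iff.2 ⟨?_, inferInstance⟩
    by_contra hcon
    rw [not_nonempty_iff] at hcon
    have hall : ∀ y, y ∈ orbit NX a := fun y => by
      by_contra hy; exact hcon.elim ⟨y, hy⟩
    have h1 : norb NX X ≤ 1 := by
      unfold norb
      refine (Nat.card_le_card_of_surjective (α := Unit) (fun _ => Quotient.mk'' a) ?_).trans
        (by simp)
      intro q
      induction q using Quotient.inductionOn'
      exact ⟨(), (Quotient.eq''.2 (hall _)).symm⟩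
    have := hp.two_le
    omega
  obtain ⟨cN, wN⟩ := split NX hNXp ON
    (Nat.card_pos_iff.2 ⟨⟨⟨a, mem_orbit_self a⟩⟩, inferInstance⟩) hBpos
  have hcardNX : Nat.card NX = Nat.card N :=
    (Nat.card_congr (N.equivMapOfInjective _ (Subgroup.subtype_injective P)).toEquiv).symm
  have hdp : d - norb NX X ≤ p * (m - 1) := by
    rw [Nat.mul_sub, mul_one, ← hdm]; omega
  rw [hcardNX] at cN
  have cN' : (Nat.card N) ^ (p - 1) ≤ p ^ (p * (m - 1)) :=
    cN.trans (Nat.pow_le_pow_right hp.pos hdp)
  have hPN : Nat.card P = p * Nat.card N := by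
    rw [← hNi, Subgroup.index_mul_card]
  have hsum : p * (m - 1) + (p - 1) = d - 1 := by
    have := hp.two_le
    rw [Nat.mul_sub, mul_one, hdm]
    have : p ≤ p * m := Nat.le_mul_of_pos_right p hm
    omega
  rw [hnorbP]
  constructor
  · rw [hPN, mul_pow, ← hsum, pow_add, mul_comm (p ^ (p * (m - 1)))]
    exact Nat.mul_le_mul_left _ cN'
  -- elements outside N have at most m cycles
  have hout : ∀ u : P, u ∉ N → cyc (u : Equiv.Perm X) ≤ m := by
    intro u hu
    have key : ∀ (y : X) (i j : ℕ), j ≤ i → i < p → (u ^ i : P) • y = (u ^ j : P) • y → i = j := by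
      intro y i j hji hi he
      have hmem : u ^ (i - j) ∈ N := stabN y _ ⟨1, N.one_mem, by
        rw [one_smul]
        refine MulAction.injective (u ^ j) ?_
        show (u ^ j : P) • y = (u ^ j : P) • ((u ^ (i - j) : P) • y)
        rw [← mul_smul, ← pow_add, Nat.add_sub_cancel' hji, he]⟩
      by_contra hne
      have hne2 : (QuotientGroup.mk' N u) ≠ 1 := by
        rw [Ne, QuotientGroup.mk'_apply, QuotientGroup.eq_one_iff]; exact hu
      have hord : orderOf (QuotientGroup.mk' N u) = p :=
        orderOf_eq_prime (by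
          rw [← hNi]; exact pow_card_eq_one') hne2
      have hdiv : orderOf (QuotientGroup.mk' N u) ∣ i - j := by
        rw [orderOf_dvd_iff_pow_eq_one, ← map_pow]
        exact (QuotientGroup.eq_one_iff _).2 hmem
      rw [hord] at hdiv
      have := Nat.le_of_dvd (by omega) hdiv
      omega
    have h2 := cyc_mul_le (u : Equiv.Perm X) p (by
      intro y i j hi hj he
      rcases le_total j i with h | h
      · exact key y i j h hi he
      · exact (key y j i h hj he.symm).symm)
    rw [hd, hdm, mul_comm p m] at h2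
    exact Nat.le_of_mul_le_mul_right h2 hp.pos
  rw [wt, finsum_eq_sum_of_fintype, ← Finset.sum_filter_add_sum_filter_not Finset.univ (fun u => u ∈ N)]
  have hin : ∑ u ∈ Finset.univ.filter (fun u : P => u ∈ N), c ^ cyc (u : Equiv.Perm X)
      = wt c NX := by
    rw [wt, finsum_eq_sum_of_fintype]
    refine Finset.sum_bij (fun u hu => (⟨(u : Equiv.Perm X), (hmemNX u).2 (Finset.mem_filter.1 hu).2⟩ : NX))
      (fun _ _ => Finset.mem_univ _) (fun u _ v _ h => Subtype.ext (congrArg (fun t : NX => (t : Equiv.Perm X)) h)) ?_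
      (fun _ _ => rfl)
    rintro ⟨b, hb⟩ -
    obtain ⟨n, hn, rfl⟩ := Subgroup.mem_map.1 hb
    exact ⟨n, Finset.mem_filter.2 ⟨Finset.mem_univ _, hn⟩, rfl⟩
  rw [hin]
  have hcnt : ((Finset.univ.filter (fun u : P => u ∉ N)).card : ℝ) = ((p : ℝ) - 1) * Nat.card N := by
    have h1 := Finset.card_filter_add_card_filter_not (s := (Finset.univ : Finset P)) (fun u => u ∈ N)
    have h2 : (Finset.univ.filter (fun u : P => u ∈ N)).card = Nat.card N := by
      rw [Nat.card_eq_fintype_card]; exact (Fintype.card_subtype _).symm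
    rw [h2, Finset.card_univ, ← Nat.card_eq_fintype_card, hPN] at h1
    have h3 : ((Nat.card N : ℝ) + (Finset.univ.filter (fun u : P => u ∉ N)).card) = (p : ℝ) * Nat.card N := by
      exact_mod_cast h1
    linarith
  have hp1 : (0:ℝ) ≤ (p : ℝ) - 1 := by
    have : (2:ℝ) ≤ p := by exact_mod_cast hp.two_le
    linarith
  have hoS : ∑ u ∈ Finset.univ.filter (fun u : P => u ∉ N), c ^ cyc (u : Equiv.Perm X)
      ≤ ((p:ℝ) - 1) * (c ^ (p * m) * (1 + x) ^ (p * (m - 1)) * x) := by
    calc _ ≤ ∑ u ∈ Finset.univ.filter (fun u : P => u ∉ N), c ^ m :=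
          Finset.sum_le_sum fun u hu => pow_le_pow_right₀ hc (hout u (Finset.mem_filter.1 hu).2)
      _ = ((p:ℝ) - 1) * ((Nat.card N : ℝ) * c ^ m) := by
          rw [Finset.sum_const, nsmul_eq_mul, hcnt]; ring
      _ ≤ _ := mul_le_mul_of_nonneg_left (hkey m _ hm cN') hp1
  have hiS : wt c NX ≤ c ^ (p * m) * (1 + x) ^ (p * (m - 1)) := by
    rw [← hdm]
    exact wN.trans (mul_le_mul_of_nonneg_left (pow_le_pow_right₀ h1x hdp) (pow_nonneg hc0 _))
  have hbern : 1 + ((p:ℝ) - 1) * x ≤ (1 + x) ^ (p - 1) := by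
    have h := one_add_mul_le_pow (by linarith : (-2:ℝ) ≤ x) (p - 1)
    rw [Nat.cast_sub hp.one_le, Nat.cast_one] at h
    exact h
  calc _ ≤ c ^ (p * m) * (1 + x) ^ (p * (m - 1)) * (1 + ((p:ℝ) - 1) * x) := by linarith
    _ ≤ c ^ (p * m) * (1 + x) ^ (p * (m - 1)) * (1 + x) ^ (p - 1) :=
        mul_le_mul_of_nonneg_left hbern (by positivity)
    _ = c ^ d * (1 + x) ^ (d - 1) := by
        rw [mul_assoc, ← pow_add, hsum, ← hdm]

end Cfsg.Agent.ClassBound
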