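import Cfsg.Agent.ClassBound.Norm
import Cfsg.Agent.Lib.GLSemisimple.ElemDiv

/-!
An upper bound for the number of classes of `SL_n(q)` by weighted tuples of polynomials.
-/

set_option autoImplicit false

namespace Cfsg.Agent.ClassBound

open Polynomial Matrix Module Cfsg.Agent.GLSemi

universe u

variable {F : Type u} [Field F]

/-- the tuple of elementary divisor data -/
noncomputable def tupOf (n : ℕ) (s : Multiset (F[X] × ℕ)) : Fin n → F[X] := by
  classical
  exact fun k => ((s.filter fun z => z.2 = (k : ℕ) + 1).map Prod.fst).prod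

/-- the product of constant terms with multiplicities -/
def constProd {n : ℕ} (t : Fin n → F[X]) : F := ∏ k, (t k).coeff 0 ^ ((k : ℕ) + 1)

theorem tupOf_mem {n : ℕ} {s : Multiset (F[X] × ℕ)} (hs : IsDivData n s) :
    tupOf n s ∈ TupSet F n n := by
  classical
  refine ⟨fun k => ⟨?_, ?_⟩, ?_⟩
  · exact monic_multiset_prod_of_monic _ _ fun z hz => (hs.1 z (Multiset.mem_of_mem_filter hz)).1
  · simp only [tupOf]
    rw [coeff_zero_multiset_prod, Multiset.map_map]
    refine Multiset.prod_ne_zero fun h0 => ?_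
    obtain ⟨z, hz, hz0⟩ := Multiset.mem_map.mp h0
    exact (hs.1 z (Multiset.mem_of_mem_filter hz)).2.2.1 hz0
  · refine Eq.trans ?_ hs.2
    have hd : ∀ k : Fin n, (tupOf n s k).natDegree =
        ((s.filter fun z => z.2 = (k : ℕ) + 1).map fun z => z.1.natDegree).sum := fun k => by
      simp only [tupOf]
      rw [natDegree_multiset_prod_of_monic, Multiset.map_map]
      · rfl
      · intro f hf
        obtain ⟨z, hz, rfl⟩ := Multiset.mem_map.mp hf
        exact (hs.1 z (Multiset.mem_of_mem_filter hz)).1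
    simp_rw [hd, ← Multiset.sum_map_mul_left]
    have hb : ∀ z ∈ s, 1 ≤ z.2 ∧ z.2 ≤ n := fun z hz => (hs.1 z hz).2.2.2
    clear hd hs
    induction s using Multiset.induction_on with
    | empty => simp
    | cons z t ih =>
      rw [Multiset.map_cons, Multiset.sum_cons, ← ih fun w hw => hb w (Multiset.mem_cons_of_mem hw)]
      obtain ⟨h1, h2⟩ := hb z (Multiset.mem_cons_self _ _)
      have hstep : ∀ k : Fin n, (((z ::ₘ t).filter fun y => y.2 = (k : ℕ) + 1).map fun y =>
          ((k : ℕ) + 1) * y.1.natDegree).sum =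
          (if (⟨z.2 - 1, by omega⟩ : Fin n) = k then z.2 * z.1.natDegree else 0) +
          ((t.filter fun y => y.2 = (k : ℕ) + 1).map fun y => ((k : ℕ) + 1) * y.1.natDegree).sum := by
        intro k
        rw [Multiset.filter_cons]
        by_cases hk : z.2 = (k : ℕ) + 1
        · rw [if_pos hk, if_pos (Fin.ext (by simp only; omega))]
          simp [hk]
        · rw [if_neg hk, if_neg (fun h => hk (by rw [← h]; simp only; omega))]
          simp
      simp_rw [hstep]
      rw [Finset.sum_add_distrib, Finset.sum_ite_eq, if_pos (Finset.mem_univ _)]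

theorem tupOf_injOn {n : ℕ} {s s' : Multiset (F[X] × ℕ)} (hs : IsDivData n s) (hs' : IsDivData n s')
    (h : tupOf n s = tupOf n s') : s = s' := by
  classical
  have hnf : ∀ (s : Multiset (F[X] × ℕ)), IsDivData n s → ∀ k : Fin n,
      UniqueFactorizationMonoid.normalizedFactors (tupOf n s k) =
        (s.filter fun z => z.2 = (k : ℕ) + 1).map Prod.fst := by
    intro s hs k
    have hmem : ∀ f ∈ (s.filter fun z => z.2 = (k : ℕ) + 1).map Prod.fst, f.Monic ∧ Irreducible f := by
      intro f hf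
      obtain ⟨z, hz, rfl⟩ := Multiset.mem_map.mp hf
      exact ⟨(hs.1 z (Multiset.mem_of_mem_filter hz)).1, (hs.1 z (Multiset.mem_of_mem_filter hz)).2.1⟩
    simp only [tupOf]
    rw [UniqueFactorizationMonoid.normalizedFactors_prod_eq _ fun f hf => (hmem f hf).2]
    conv_rhs => rw [← Multiset.map_id (Multiset.map Prod.fst _)]
    exact Multiset.map_congr rfl fun f hf => (hmem f hf).1.normalize_eq_self
  refine Multiset.ext.mpr fun z => ?_
  by_cases hz : 1 ≤ z.2 ∧ z.2 ≤ n
  · let k : Fin n := ⟨z.2 - 1, by omega⟩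
    have key : ∀ s : Multiset (F[X] × ℕ),
        ((s.filter fun y => y.2 = (k : ℕ) + 1).map Prod.fst).count z.1 = s.count z := by
      intro s
      rw [Multiset.count_map, Multiset.filter_filter, Multiset.count_eq_card_filter_eq]
      congr 1
      refine Multiset.filter_congr fun y _ => ?_
      have hk : (k : ℕ) + 1 = z.2 := by simp only [k]; omega
      rw [hk]
      exact ⟨fun ⟨p, q⟩ => (Prod.ext p.symm q).symm, fun e => ⟨by rw [e], by rw [e]⟩⟩
    rw [← key, ← key, ← hnf s hs, ← hnf s' hs', h]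
  · rw [Multiset.count_eq_zero_of_notMem fun hm => hz (hs.1 z hm).2.2.2,
      Multiset.count_eq_zero_of_notMem fun hm => hz (hs'.1 z hm).2.2.2]

theorem constProd_tupOf {n : ℕ} {s : Multiset (F[X] × ℕ)} (hs : IsDivData n s) :
    constProd (tupOf n s) = (s.map fun z => z.1.coeff 0 ^ z.2).prod := by
  classical
  have hd : ∀ k : Fin n, (tupOf n s k).coeff 0 ^ ((k : ℕ) + 1) =
      ((s.filter fun z => z.2 = (k : ℕ) + 1).map fun z => z.1.coeff 0 ^ ((k : ℕ) + 1)).prod := fun k => by
    simp only [tupOf]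
    rw [coeff_zero_multiset_prod, Multiset.map_map, ← Multiset.prod_map_pow]
    rfl
  simp only [constProd, hd]
  have hb : ∀ z ∈ s, 1 ≤ z.2 ∧ z.2 ≤ n := fun z hz => (hs.1 z hz).2.2.2
  clear hd hs
  induction s using Multiset.induction_on with
  | empty => simp
  | cons z t ih =>
    rw [Multiset.map_cons, Multiset.prod_cons, ← ih fun w hw => hb w (Multiset.mem_cons_of_mem hw)]
    obtain ⟨h1, h2⟩ := hb z (Multiset.mem_cons_self _ _)
    have hstep : ∀ k : Fin n, (((z ::ₘ t).filter fun y => y.2 = (k : ℕ) + 1).map fun y =>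
        y.1.coeff 0 ^ ((k : ℕ) + 1)).prod =
        (if (⟨z.2 - 1, by omega⟩ : Fin n) = k then z.1.coeff 0 ^ z.2 else 1) *
        ((t.filter fun y => y.2 = (k : ℕ) + 1).map fun y => y.1.coeff 0 ^ ((k : ℕ) + 1)).prod := by
      intro k
      rw [Multiset.filter_cons]
      by_cases hk : z.2 = (k : ℕ) + 1
      · rw [if_pos hk, if_pos (Fin.ext (by simp only; omega))]
        simp [hk]
      · rw [if_neg hk, if_neg (fun h => hk (by rw [← h]; simp only; omega))]
        simp
    simp_rw [hstep]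
    rw [Finset.prod_mul_distrib, Finset.prod_ite_eq, if_pos (Finset.mem_univ _)]

theorem exists_of_natDegree_pos {n : ℕ} {s : Multiset (F[X] × ℕ)} {k : Fin n}
    (h : 0 < (tupOf n s k).natDegree) : ∃ z ∈ s, z.2 = (k : ℕ) + 1 := by
  classical
  by_contra hc
  push Not at hc
  have he : s.filter (fun z => z.2 = (k : ℕ) + 1) = 0 := Multiset.filter_eq_nil.2 hc
  simp [tupOf, he] at h

variable [Finite F]

/-- determinants of the invertible matrices commuting with `g` -/
def detC {n : ℕ} (g : GL (Fin n) F) : Subgroup Fˣ :=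
  (Subgroup.centralizer {g}).map Matrix.GeneralLinearGroup.det

/-- a matrix with given data: determinant, and determinants on its centraliser -/
theorem data_spec {n : ℕ} (g : GL (Fin n) F) :
    ∃ s, IsDivData n s ∧ HasDivData (g : Matrix (Fin n) (Fin n) F) s ∧
      constProd (tupOf n s) = (-1) ^ n * (g : Matrix (Fin n) (Fin n) F).det ∧
      ∀ z ∈ s, ∀ c : Fˣ, c ^ z.2 ∈ detC g := by
  classical
  obtain ⟨s, hs, hHas⟩ := exists_divData g
  refine ⟨s, hs, hHas, ?_⟩
  obtain ⟨ι, hι, z, hz, ⟨L⟩⟩ := hHas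
  have hzi : ∀ i, z i ∈ s := fun i => hz ▸ Multiset.mem_map_of_mem _ (Finset.mem_univ i)
  have hmon : ∀ i, ((z i).1 ^ (z i).2).Monic := fun i => (hs.1 _ (hzi i)).1.pow _
  haveI : ∀ i, Module.Finite F (AdjoinRoot ((z i).1 ^ (z i).2)) := fun i =>
    (AdjoinRoot.powerBasis' (hmon i)).finite
  set f := Matrix.toLin' (g : Matrix (Fin n) (Fin n) F) with hf
  let ψ0 := (AEval'.of f).trans (L.restrictScalars F)
  let Θ : (∀ i, F[X] ⧸ Submodule.span F[X] {(z i).1 ^ (z i).2}) ≃ₗ[F]
      ∀ i, AdjoinRoot ((z i).1 ^ (z i).2) :=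
    LinearEquiv.piCongrRight fun i =>
      { toFun := fun x => x
        invFun := fun x => x
        left_inv := fun _ => rfl
        right_inv := fun _ => rfl
        map_add' := fun _ _ => rfl
        map_smul' := fun c x => by
          obtain ⟨r, rfl⟩ := Submodule.Quotient.mk_surjective _ x
          rfl }
  let ψ : (Fin n → F) ≃ₗ[F] ∀ i, AdjoinRoot ((z i).1 ^ (z i).2) := ψ0.trans Θ
  let ρ : ∀ i, AdjoinRoot ((z i).1 ^ (z i).2) := fun i => AdjoinRoot.root _
  have hψ : ∀ v, ψ (f v) = ρ * ψ v := by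
    intro v
    funext i
    have h1 : L ((AEval'.of f) (f v)) = (X : F[X]) • L (AEval'.of f v) := by
      rw [← map_smul, Module.AEval.X_smul_of]
      rfl
    have hΘ : ∀ (y : ∀ i, F[X] ⧸ Submodule.span F[X] {(z i).1 ^ (z i).2}) i,
        Θ ((X : F[X]) • y) i = ρ i * Θ y i := by
      intro y i
      choose r hr using fun i => Submodule.Quotient.mk_surjective _ (y i)
      rw [show y = fun i => Submodule.Quotient.mk (r i) from (funext hr).symm]
      exact map_mul (AdjoinRoot.mk ((z i).1 ^ (z i).2)) X (r i)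
    show Θ (L ((AEval'.of f) (f v))) i = ρ i * Θ (L (AEval'.of f v)) i
    rw [h1]
    exact hΘ _ i
  have hdetT : ∀ y : ∀ i, AdjoinRoot ((z i).1 ^ (z i).2),
      LinearMap.det (ψ.symm.conj (Algebra.lmul F _ y)) = Algebra.norm F y := by
    intro y
    rw [LinearEquiv.conj_apply, LinearMap.comp_assoc, LinearMap.det_conj, Algebra.norm_apply]
  have hfT : f = ψ.symm.conj (Algebra.lmul F _ ρ) := by
    refine LinearMap.ext fun v => ?_
    rw [LinearEquiv.conj_apply_apply, LinearEquiv.symm_symm]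
    show f v = ψ.symm (ρ * ψ v)
    rw [← hψ, LinearEquiv.symm_apply_apply]
  refine ⟨?_, ?_⟩
  · have h1 : (g : Matrix (Fin n) (Fin n) F).det = Algebra.norm F ρ := by
      rw [← LinearMap.det_toLin', ← hf, hfT, hdetT]
    rw [h1, norm_pi, constProd_tupOf hs, ← hz, Multiset.map_map]
    simp only [ρ, Function.comp_def]
    rw [Finset.prod_map_val]
    have h2 : ∀ i, Algebra.norm F (AdjoinRoot.root ((z i).1 ^ (z i).2)) =
        (-1) ^ ((z i).2 * (z i).1.natDegree) * (z i).1.coeff 0 ^ (z i).2 := fun i => by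
      rw [norm_root (hmon i), natDegree_pow, coeff_zero_eq_eval_zero, coeff_zero_eq_eval_zero,
        eval_pow]
    simp only [h2, Finset.prod_mul_distrib, Finset.prod_pow_eq_pow_sum]
    have hsum : ∑ i, (z i).2 * (z i).1.natDegree = n := by
      conv_rhs => rw [← hs.2, ← hz, Multiset.map_map]
      rfl
    rw [hsum, ← mul_assoc, ← mul_pow, neg_one_mul, neg_neg, one_pow, one_mul]
  · intro w hw c
    rw [← hz] at hw
    obtain ⟨i, -, rfl⟩ := Multiset.mem_map.mp hw
    obtain ⟨hm, hirr, -, he, -⟩ := hs.1 _ (hzi i)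
    obtain ⟨y, hy⟩ := exists_norm_pow hirr hm he (c : F)
    set E := ψ.symm.conj (Algebra.lmul F _ (Pi.mulSingle i y : ∀ j, AdjoinRoot ((z j).1 ^ (z j).2)))
      with hE
    have hEdet : (LinearMap.toMatrix' E).det = (c : F) ^ (z i).2 := by
      rw [LinearMap.det_toMatrix', hE, hdetT, norm_mulSingle, hy]
    refine ⟨GeneralLinearGroup.mkOfDetNeZero (LinearMap.toMatrix' E)
      (by rw [hEdet]; exact pow_ne_zero _ c.ne_zero), ?_, ?_⟩
    · rw [SetLike.mem_coe, Subgroup.mem_centralizer_singleton_iff]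
      refine Units.ext (Matrix.toLin'.injective ?_)
      rw [Units.val_mul, Units.val_mul]
      show Matrix.toLin' (LinearMap.toMatrix' E * (g : Matrix (Fin n) (Fin n) F)) =
        Matrix.toLin' ((g : Matrix (Fin n) (Fin n) F) * LinearMap.toMatrix' E)
      rw [Matrix.toLin'_mul, Matrix.toLin'_mul, Matrix.toLin'_toMatrix', ← hf, hfT, hE,
        ← LinearEquiv.conj_comp, ← LinearEquiv.conj_comp, ← Module.End.mul_eq_comp,
        ← Module.End.mul_eq_comp, ← map_mul, ← map_mul, mul_comm]
    · refine Units.ext ?_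
      rw [Units.val_pow_eq_pow_val]
      exact hEdet

variable [Fintype F]

/-- the weight of a tuple -/
noncomputable def weight {n : ℕ} (t : Fin n → F[X]) : ℕ := by
  classical
  exact Nat.gcd (Fintype.card F - 1)
    ((Finset.univ.filter fun k => 0 < (t k).natDegree).gcd fun k => (k : ℕ) + 1)

theorem pow_weight_mem {n : ℕ} {g : GL (Fin n) F} {s : Multiset (F[X] × ℕ)}
    (h : ∀ z ∈ s, ∀ c : Fˣ, c ^ z.2 ∈ detC g) (c : Fˣ) : c ^ weight (tupOf n s) ∈ detC g := by
  classical
  have hgcd : ∀ a b : ℕ, (∀ c : Fˣ, c ^ a ∈ detC g) → (∀ c : Fˣ, c ^ b ∈ detC g) →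
      ∀ c : Fˣ, c ^ Nat.gcd a b ∈ detC g := by
    intro a b ha hb c
    rw [← zpow_natCast, Nat.gcd_eq_gcd_ab, _root_.zpow_add, mul_comm (a : ℤ), mul_comm (b : ℤ), _root_.zpow_mul,
      _root_.zpow_mul, zpow_natCast, zpow_natCast]
    exact mul_mem (ha _) (hb _)
  refine hgcd _ _ (fun c => ?_) ?_ c
  · rw [← Fintype.card_units, pow_card_eq_one]
    exact one_mem _
  · suffices h' : ∀ T : Finset (Fin n), (∀ k ∈ T, 0 < (tupOf n s k).natDegree) →
        ∀ c : Fˣ, c ^ (T.gcd fun k : Fin n => (k : ℕ) + 1) ∈ detC g from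
      h' _ fun k hk => (Finset.mem_filter.1 hk).2
    intro T
    induction T using Finset.induction_on with
    | empty => intro _ c; rw [Finset.gcd_empty, pow_zero]; exact one_mem _
    | insert k T _ ih =>
      intro hT
      rw [Finset.gcd_insert]
      obtain ⟨z, hz, hz2⟩ := exists_of_natDegree_pos (hT k (Finset.mem_insert_self _ _))
      exact hgcd _ _ (hz2 ▸ h z hz) (ih fun j hj => hT j (Finset.mem_insert_of_mem hj))

/-- the tuples of matrices of determinant one -/
def DetOne (F : Type u) [Field F] (n : ℕ) : Set (Fin n → F[X]) :=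
  {t | t ∈ TupSet F n n ∧ constProd t = (-1) ^ n}

instance finite_detOne (n : ℕ) : Finite (DetOne F n) :=
  haveI := (tup_bound (F := F) n n).1
  Finite.of_injective (fun t : DetOne F n => (⟨t.1, t.2.1⟩ : TupSet F n n))
    fun _ _ h => Subtype.ext (by simpa using h)

theorem card_quot_pow {D : ℕ} (hD : D ∣ Fintype.card F - 1) :
    Nat.card (Fˣ ⧸ (powMonoidHom D : Fˣ →* Fˣ).range) = D := by
  classical
  rw [← Subgroup.index_eq_card, IsCyclic.index_powMonoidHom_range, Nat.card_eq_fintype_card,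
    Fintype.card_units, Nat.gcd_eq_right hD]

theorem exists_class_injection {n : ℕ} :
    ∃ Φ : ConjClasses (Matrix.SpecialLinearGroup (Fin n) F) →
      Σ t : DetOne F n, Fˣ ⧸ (powMonoidHom (weight t.1) : Fˣ →* Fˣ).range,
      Function.Injective Φ ∧ ∀ C, ∃ (g : Matrix.SpecialLinearGroup (Fin n) F) (s : Multiset (F[X] × ℕ)),
        ConjClasses.mk g = C ∧ IsDivData n s ∧ HasDivData (g : Matrix (Fin n) (Fin n) F) s ∧
          tupOf n s = (Φ C).1.1 := by
  classical
  let toG : Matrix.SpecialLinearGroup (Fin n) F →* GL (Fin n) F := Matrix.SpecialLinearGroup.toGL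
  choose S hS1 hS2 hS3 hS4 using fun g : GL (Fin n) F => data_spec g
  let T : Matrix.SpecialLinearGroup (Fin n) F → DetOne F n := fun g =>
    ⟨tupOf n (S (toG g)), tupOf_mem (hS1 _), by
      rw [hS3]
      show _ * (g : Matrix (Fin n) (Fin n) F).det = _
      rw [g.2, mul_one]⟩
  let r : DetOne F n → Matrix.SpecialLinearGroup (Fin n) F := fun t =>
    if h : ∃ g, T g = t then h.choose else 1
  have hconj : ∀ g, ∃ x : GL (Fin n) F, x * toG (r (T g)) * x⁻¹ = toG g := by
    intro g
    have hr : T (r (T g)) = T g := by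
      have h : ∃ g', T g' = T g := ⟨g, rfl⟩
      simp only [r, dif_pos h]
      exact h.choose_spec
    have hs : S (toG (r (T g))) = S (toG g) :=
      tupOf_injOn (hS1 _) (hS1 _) (congrArg Subtype.val hr)
    exact isConj_iff.1 (isConj_of_divData (hS2 _) (hs ▸ hS2 (toG g)))
  choose x hx using hconj
  let out : ConjClasses (Matrix.SpecialLinearGroup (Fin n) F) → Matrix.SpecialLinearGroup (Fin n) F :=
    fun C => Quotient.out C
  let Φ : ConjClasses (Matrix.SpecialLinearGroup (Fin n) F) →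
      Σ t : DetOne F n, Fˣ ⧸ (powMonoidHom (weight t.1) : Fˣ →* Fˣ).range :=
    fun C => ⟨T (out C), QuotientGroup.mk (Matrix.GeneralLinearGroup.det (x (out C)))⟩
  have hΦ : Function.Injective Φ := by
    suffices key : ∀ g g',
        (⟨T g, QuotientGroup.mk (Matrix.GeneralLinearGroup.det (x g))⟩ :
          Σ t : DetOne F n, Fˣ ⧸ (powMonoidHom (weight t.1) : Fˣ →* Fˣ).range) =
          ⟨T g', QuotientGroup.mk (Matrix.GeneralLinearGroup.det (x g'))⟩ →
        ConjClasses.mk g' = ConjClasses.mk g by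
      intro C C' h
      exact (Quotient.out_eq C).symm.trans ((key (out C) (out C') h).symm.trans (Quotient.out_eq C'))
    intro g g' h
    rw [Sigma.mk.injEq] at h
    obtain ⟨hT, hq⟩ := h
    have hmem : (Matrix.GeneralLinearGroup.det (x g))⁻¹ * Matrix.GeneralLinearGroup.det (x g') ∈
        (powMonoidHom (weight (T g).1) : Fˣ →* Fˣ).range := by
      refine QuotientGroup.eq.1 ?_
      have hgen : ∀ (t t' : DetOne F n) (a b : Fˣ), t = t' →
          HEq (QuotientGroup.mk a : Fˣ ⧸ (powMonoidHom (weight t.1) : Fˣ →* Fˣ).range)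
            (QuotientGroup.mk b : Fˣ ⧸ (powMonoidHom (weight t'.1) : Fˣ →* Fˣ).range) →
          (QuotientGroup.mk a : Fˣ ⧸ (powMonoidHom (weight t.1) : Fˣ →* Fˣ).range) = QuotientGroup.mk b := by
        rintro t t' a b rfl h
        exact eq_of_heq h
      exact hgen _ _ _ _ hT hq
    obtain ⟨c, hc⟩ := hmem
    have hr : r (T g') = r (T g) := by rw [hT]
    have hx' := hx g'
    rw [hr] at hx'
    set R := toG (r (T g)) with hR
    have hwR : weight (T g).1 = weight (tupOf n (S R)) := by
      have h : ∃ g'', T g'' = T g := ⟨g, rfl⟩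
      have : T (r (T g)) = T g := by
        simp only [r, dif_pos h]; exact h.choose_spec
      rw [hR]
      exact (congrArg (fun t : DetOne F n => weight t.1) this).symm
    have hd := pow_weight_mem (hS4 R) c
    rw [← hwR] at hd
    rw [powMonoidHom_apply] at hc
    rw [hc] at hd
    obtain ⟨z, hz, hzd⟩ := hd
    rw [SetLike.mem_coe, Subgroup.mem_centralizer_singleton_iff] at hz
    set y := x g * z * (x g')⁻¹ with hy
    have hdet : (y : Matrix (Fin n) (Fin n) F).det = 1 := by
      have : Matrix.GeneralLinearGroup.det y = 1 := by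
        rw [hy, map_mul, map_mul, map_inv, hzd, mul_inv_cancel_left, mul_inv_cancel]
      exact congrArg Units.val this
    let y' : Matrix.SpecialLinearGroup (Fin n) F := ⟨(y : Matrix (Fin n) (Fin n) F), hdet⟩
    have hyG : toG y' = y := Units.ext rfl
    have hconj' : y' * g' * y'⁻¹ = g := by
      refine (show Function.Injective toG from fun a b hab => Subtype.ext (congrArg Units.val hab)) ?_
      rw [map_mul, map_mul, map_inv, hyG, ← hx g, ← hx', ← hR, hy]
      have e : z * R * z⁻¹ = R := by rw [hz, mul_inv_cancel_right]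
      conv_rhs => rw [← e]
      group
    exact ConjClasses.mk_eq_mk_iff_isConj.2 (isConj_iff.2 ⟨y', hconj'⟩)
  exact ⟨Φ, hΦ, fun C => ⟨out C, S (toG (out C)), Quotient.out_eq C, hS1 _, hS2 _, rfl⟩⟩

theorem card_conjClasses_SL_le {n : ℕ} [Fintype (DetOne F n)] :
    Nat.card (ConjClasses (Matrix.SpecialLinearGroup (Fin n) F)) ≤
      ∑ t : DetOne F n, weight t.1 := by
  classical
  obtain ⟨Φ, hΦ, -⟩ := exists_class_injection (F := F) (n := n)
  refine (Nat.card_le_card_of_injective Φ hΦ).trans (le_of_eq ?_)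
  rw [Nat.card_sigma]
  refine Finset.sum_congr rfl fun t _ => card_quot_pow ?_
  exact Nat.gcd_dvd_left _ _

/-- tuples all of whose exponents are divisible by `d` -/
theorem sum_weight_eq {n : ℕ} [Fintype (DetOne F n)] (hn : 0 < n) :
    ∑ t : DetOne F n, weight t.1 =
      ∑ d ∈ (Finset.Icc 1 n).filter (fun d => d ∣ Fintype.card F - 1),
        d.totient * Nat.card {t : DetOne F n // ∀ k, 0 < (t.1 k).natDegree → d ∣ (k : ℕ) + 1} := by
  classical
  set S := (Finset.Icc 1 n).filter (fun d => d ∣ Fintype.card F - 1) with hS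
  have hdiv : ∀ t : DetOne F n, (weight t.1).divisors =
      S.filter fun d => ∀ k, 0 < (t.1 k).natDegree → d ∣ (k : ℕ) + 1 := by
    intro t
    obtain ⟨k0, hk0⟩ : ∃ k, 0 < (t.1 k).natDegree := by
      by_contra hc
      push Not at hc
      have := t.2.1.2
      rw [Finset.sum_eq_zero fun k _ => by rw [Nat.le_zero.1 (hc k), mul_zero]] at this
      omega
    have hq : 0 < Fintype.card F - 1 := by
      have := Fintype.one_lt_card (α := F)
      omega
    have hiff : ∀ d, d ∣ weight t.1 ↔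
        d ∣ Fintype.card F - 1 ∧ ∀ k, 0 < (t.1 k).natDegree → d ∣ (k : ℕ) + 1 := fun d => by
      simp only [weight, Nat.dvd_gcd_iff, Finset.dvd_gcd_iff, Finset.mem_filter, Finset.mem_univ,
        true_and]
    ext d
    rw [Nat.mem_divisors, Finset.mem_filter, hS, Finset.mem_filter, Finset.mem_Icc, hiff]
    constructor
    · rintro ⟨⟨h1, h2⟩, -⟩
      exact ⟨⟨⟨Nat.pos_of_dvd_of_pos h1 hq,
        (Nat.le_of_dvd (Nat.succ_pos _) (h2 k0 hk0)).trans k0.isLt⟩, h1⟩, h2⟩
    · rintro ⟨⟨-, h1⟩, h2⟩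
      exact ⟨⟨h1, h2⟩, (Nat.gcd_pos_of_pos_left _ hq).ne'⟩
  calc ∑ t : DetOne F n, weight t.1
      = ∑ t : DetOne F n, ∑ d ∈ S.filter (fun d => ∀ k, 0 < (t.1 k).natDegree → d ∣ (k : ℕ) + 1),
          d.totient := Finset.sum_congr rfl fun t _ => by rw [← hdiv, Nat.sum_totient]
    _ = ∑ d ∈ S, ∑ t : DetOne F n,
          if ∀ k, 0 < (t.1 k).natDegree → d ∣ (k : ℕ) + 1 then d.totient else 0 := by
        simp only [Finset.sum_filter]
        rw [Finset.sum_comm]
    _ = _ := Finset.sum_congr rfl fun d _ => by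
        rw [← Finset.sum_filter, Finset.sum_const, smul_eq_mul, Nat.card_eq_fintype_card,
          Fintype.card_subtype, mul_comm]

omit [Finite F] in
/-- tuples supported on multiples of `d` reduce to tuples of weight `n / d` -/
theorem card_divisible_le {n : ℕ} {d : ℕ} (hd : 0 < d) [Finite (TupSet F (n / d) (n / d))] :
    Nat.card {t : DetOne F n // ∀ k, 0 < (t.1 k).natDegree → d ∣ (k : ℕ) + 1} ≤
      Nat.card {b : TupSet F (n / d) (n / d) // constProd b.1 ^ d = (-1) ^ n} := by
  classical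
  set m := n / d with hm
  have hlt : ∀ j : Fin m, d * ((j : ℕ) + 1) - 1 < n := by
    intro j
    have h1 : d * ((j : ℕ) + 1) ≤ d * m := Nat.mul_le_mul_left _ j.isLt
    have h2 : d * m ≤ n := Nat.mul_div_le n d
    have h3 : 0 < d * ((j : ℕ) + 1) := Nat.mul_pos hd (Nat.succ_pos _)
    omega
  let emb : Fin m ↪ Fin n := ⟨fun j => ⟨d * ((j : ℕ) + 1) - 1, hlt j⟩, fun a b hab => by
    have h := congrArg Fin.val hab
    simp only at h
    have h3 : 0 < d * ((a : ℕ) + 1) := Nat.mul_pos hd (Nat.succ_pos _)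
    have h4 : 0 < d * ((b : ℕ) + 1) := Nat.mul_pos hd (Nat.succ_pos _)
    have h5 : d * ((a : ℕ) + 1) = d * ((b : ℕ) + 1) := by omega
    exact Fin.ext (by simpa using Nat.eq_of_mul_eq_mul_left hd h5)⟩
  have hemb : ∀ j, ((emb j : Fin n) : ℕ) + 1 = d * ((j : ℕ) + 1) := fun j =>
    Nat.sub_add_cancel (Nat.mul_pos hd (Nat.succ_pos _))
  have hout : ∀ t : {t : DetOne F n // ∀ k, 0 < (t.1 k).natDegree → d ∣ (k : ℕ) + 1},
      ∀ k, k ∉ Finset.univ.map emb → t.1.1 k = 1 := by
    intro t k hk
    refine (t.1.2.1.1 k).1.natDegree_eq_zero.1 ?_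
    by_contra hne
    obtain ⟨c, hc⟩ := t.2 k (Nat.pos_of_ne_zero hne)
    have hc0 : 0 < c := by
      rcases Nat.eq_zero_or_pos c with rfl | h
      · simp at hc
      · exact h
    have hcm : c ≤ m := by
      rw [hm, Nat.le_div_iff_mul_le hd, mul_comm, ← hc]
      exact k.isLt
    refine hk (Finset.mem_map.2 ⟨⟨c - 1, by omega⟩, Finset.mem_univ _, Fin.ext ?_⟩)
    show d * (c - 1 + 1) - 1 = k
    rw [Nat.sub_add_cancel hc0, ← hc]
    omega
  have hsum : ∀ t : {t : DetOne F n // ∀ k, 0 < (t.1 k).natDegree → d ∣ (k : ℕ) + 1},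
      ∑ j : Fin m, ((j : ℕ) + 1) * (t.1.1 (emb j)).natDegree = m ∧
      constProd (fun j => t.1.1 (emb j)) ^ d = (-1) ^ n := by
    intro t
    constructor
    · have h := t.1.2.1.2
      rw [← Finset.sum_subset (Finset.subset_univ (Finset.univ.map emb))
        (fun k _ hk => by rw [hout t k hk, natDegree_one, mul_zero]), Finset.sum_map] at h
      simp only [hemb, mul_assoc, ← Finset.mul_sum] at h
      exact (Nat.div_eq_of_eq_mul_right hd h.symm).symm
    · have h := t.1.2.2
      simp only [constProd] at h ⊢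
      rw [← Finset.prod_subset (Finset.subset_univ (Finset.univ.map emb))
        (fun k _ hk => by rw [hout t k hk, coeff_one_zero, one_pow]), Finset.prod_map] at h
      simp only [hemb] at h
      rw [← h, ← Finset.prod_pow]
      exact Finset.prod_congr rfl fun j _ => by rw [← pow_mul, mul_comm]
  let f : {t : DetOne F n // ∀ k, 0 < (t.1 k).natDegree → d ∣ (k : ℕ) + 1} →
      {b : TupSet F m m // constProd b.1 ^ d = (-1) ^ n} := fun t =>
    ⟨⟨fun j => t.1.1 (emb j), fun j => t.1.2.1.1 _, (hsum t).1⟩, (hsum t).2⟩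
  refine Nat.card_le_card_of_injective f fun t t' htt => Subtype.ext (Subtype.ext (funext fun k => ?_))
  by_cases hk : k ∈ Finset.univ.map emb
  · obtain ⟨j, -, rfl⟩ := Finset.mem_map.1 hk
    exact congrFun (congrArg (fun b => (b.1.1 : Fin m → F[X])) htt) j
  · rw [hout t k hk, hout t' k hk]

end Cfsg.Agent.ClassBound
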