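import Mathlib
import Cfsg.Agent.ClassBound.PWeight

/-!
Counting conjugacy classes of permutation groups prime by prime:
a class is determined by its p-part u (in a fixed Sylow subgroup) and a class of C(u), and C(u) acts on the
cycles of u with p-group kernel modulo the kernel of the action.
-/

set_option autoImplicit false

namespace Cfsg.Agent.ClassBound

open MulAction Pointwise

/-- the element has order with all prime divisors in π -/
def PiEl {G : Type*} [Group G] (π : Finset ℕ) (g : G) : Prop :=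
  ∀ q : ℕ, q.Prime → q ∣ orderOf g → q ∈ π

/-- classes of π-elements -/
def piClasses (G : Type*) [Group G] (π : Finset ℕ) : Set (ConjClasses G) :=
  ConjClasses.mk '' {g : G | PiEl π g}

/-- bound statement -/
def Bound (π : Finset ℕ) (c : ℝ) : Prop :=
  ∀ (G : Type) [Group G] [Finite G] (X : Type) [Finite X] (φ : G →* Equiv.Perm X),
    (∀ q ∈ π, q.Prime → ¬ q ∣ Nat.card φ.ker) → ((piClasses G π).ncard : ℝ) ≤ c ^ Nat.card X

lemma bound_empty : Bound ∅ 1 := by
  intro G _ _ X _ φ _
  rw [one_pow, Nat.cast_le_one]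
  refine (Set.ncard_le_ncard (t := {ConjClasses.mk (1 : G)}) ?_ (Set.toFinite _)).trans
    (Set.ncard_singleton _).le
  rintro _ ⟨g, hg, rfl⟩
  have h1 : orderOf g = 1 := by
    by_contra h
    obtain ⟨q, hq, hqd⟩ := Nat.exists_prime_and_dvd h
    exact absurd (hg q hq hqd) (by simp)
  rw [orderOf_eq_one_iff.1 h1]
  exact Set.mem_singleton _

section CycleAction

variable {G : Type} [Group G] {X : Type} (φ : G →* Equiv.Perm X) (u : G)

lemma cent_comm (w : Subgroup.centralizer ({u} : Set G)) (i : ℤ) (a : X) :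
    φ (w : G) ((φ u ^ i) a) = (φ u ^ i) (φ (w : G) a) := by
  have h : Commute (φ (w : G)) (φ u) := by
    have := Subgroup.mem_centralizer_singleton_iff.1 w.2
    show φ (w : G) * φ u = φ u * φ (w : G)
    rw [← map_mul, ← map_mul, this]
  exact Equiv.congr_fun (h.zpow_right i).eq a

/-- the action of a centraliser on the cycles -/
noncomputable def cycFun (w : Subgroup.centralizer ({u} : Set G)) :
    orbitRel.Quotient (Subgroup.zpowers (φ u)) X → orbitRel.Quotient (Subgroup.zpowers (φ u)) X :=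
  Quotient.map' (φ (w : G)) (fun a b hab => by
    obtain ⟨i, hi⟩ := (cyc_rel _ _ _).1 hab
    exact (cyc_rel _ _ _).2 ⟨i, by rw [← cent_comm φ u w i b, hi]⟩)

/-- the action of a centraliser on the cycles -/
noncomputable def cycHom :
    Subgroup.centralizer ({u} : Set G) →*
      Equiv.Perm (orbitRel.Quotient (Subgroup.zpowers (φ u)) X) :=
  MonoidHom.toHomPerm
    { toFun := cycFun φ u
      map_one' := by
        funext q
        induction q using Quotient.inductionOn'
        simp [cycFun, Function.End]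
        rfl
      map_mul' := fun v w => by
        funext q
        induction q using Quotient.inductionOn'
        simp [cycFun, Function.End]
        rfl }

lemma cycHom_mk (w : Subgroup.centralizer ({u} : Set G)) (a : X) :
    cycHom φ u w (Quotient.mk'' a) = Quotient.mk'' (φ (w : G) a) := rfl

end CycleAction

/-- one prime -/
theorem bound_step (π : Finset ℕ) (p : ℕ) (hp : p.Prime) (hpπ : p ∉ π) (c c' : ℝ) (hc : 0 ≤ c)
    (hB : Bound π c)
    (hW : ∀ (X : Type) [Finite X] (P : Subgroup (Equiv.Perm X)), IsPGroup p P →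
      wt c P ≤ c' ^ Nat.card X) :
    Bound (insert p π) c' := by
  intro G _ _ X _ φ hker
  classical
  haveI := Fact.mk hp
  obtain ⟨P⟩ : Nonempty (Sylow p G) := inferInstance
  haveI : Fintype P := Fintype.ofFinite P
  -- the classes with given p-part
  let T : P → Set (ConjClasses G) := fun u =>
    (fun d : ConjClasses (Subgroup.centralizer ({(u : G)} : Set G)) =>
      ConjClasses.mk ((u : G) * ((Quotient.out d : Subgroup.centralizer ({(u : G)} : Set G)) : G))) ''
        piClasses _ π
  have hcover : piClasses G (insert p π) ⊆ ⋃ u ∈ (Finset.univ : Finset P), T u := by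
    rintro _ ⟨g, hg, rfl⟩
    obtain ⟨a, m, hm, hgm⟩ := Nat.exists_eq_pow_mul_and_not_dvd (orderOf_pos g).ne' p hp.ne_one
    have hcop : Nat.Coprime m (p ^ a) := ((hp.coprime_iff_not_dvd.2 hm).pow_left a).symm
    obtain ⟨s, t, hst⟩ := hcop.isCoprime
    let w := g ^ (s * (m : ℤ))
    let v := g ^ (t * ((p ^ a : ℕ) : ℤ))
    have hwv : g = w * v := by
      simp only [w, v, ← zpow_add, hst, zpow_one]
    have hgo : g ^ ((p ^ a * m : ℕ) : ℤ) = 1 := by
      rw [← hgm, zpow_natCast, pow_orderOf_eq_one]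
    have hw : w ^ (p ^ a) = 1 := by
      simp only [w]
      rw [← zpow_natCast, ← zpow_mul,
        show s * (m : ℤ) * ((p ^ a : ℕ) : ℤ) = ((p ^ a * m : ℕ) : ℤ) * s by push_cast; ring,
        zpow_mul, hgo, one_zpow]
    have hv : v ^ m = 1 := by
      simp only [v]
      rw [← zpow_natCast, ← zpow_mul,
        show t * ((p ^ a : ℕ) : ℤ) * (m : ℤ) = ((p ^ a * m : ℕ) : ℤ) * t by push_cast; ring,
        zpow_mul, hgo, one_zpow]
    have hcomm : Commute w v := (Commute.refl g).zpow_zpow _ _
    obtain ⟨k, -, hk⟩ := (Nat.dvd_prime_pow hp).1 (orderOf_dvd_of_pow_eq_one hw)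
    have hpg : IsPGroup p (Subgroup.zpowers w) :=
      IsPGroup.of_card (by rw [Nat.card_zpowers, hk])
    obtain ⟨Q, hQ⟩ := hpg.exists_le_sylow
    obtain ⟨z, hz⟩ := MulAction.exists_smul_eq G Q P
    have hu : z * w * z⁻¹ ∈ P := by
      rw [← hz]
      show z * w * z⁻¹ ∈ MulAut.conj z • (Q : Subgroup G)
      exact Subgroup.smul_mem_pointwise_smul w (MulAut.conj z) _ (hQ (Subgroup.mem_zpowers w))
    have hcent : z * v * z⁻¹ ∈ Subgroup.centralizer ({z * w * z⁻¹} : Set G) := by
      rw [Subgroup.mem_centralizer_singleton_iff]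
      show z * v * z⁻¹ * (z * w * z⁻¹) = z * w * z⁻¹ * (z * v * z⁻¹)
      rw [conj_mul, conj_mul, hcomm.eq]
    let v' : Subgroup.centralizer ({z * w * z⁻¹} : Set G) := ⟨z * v * z⁻¹, hcent⟩
    have hv' : PiEl π v' := by
      intro q hq hqd
      rw [← Subgroup.orderOf_coe] at hqd
      have h1 : orderOf (z * v * z⁻¹) ∣ m := orderOf_dvd_of_pow_eq_one (by
        rw [conj_pow, hv, mul_one, mul_inv_cancel])
      have hqm := hqd.trans h1
      have : q ∈ insert p π := hg q hq (hqm.trans (hgm ▸ dvd_mul_left m _))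
      rcases Finset.mem_insert.1 this with rfl | h
      · exact absurd hqm hm
      · exact h
    rw [Set.mem_iUnion₂]
    refine ⟨⟨z * w * z⁻¹, hu⟩, Finset.mem_univ _, ConjClasses.mk v', ⟨v', hv', rfl⟩, ?_⟩
    obtain ⟨y, hy⟩ := isConj_iff.1
      (ConjClasses.mk_eq_mk_iff_isConj.1 (Quotient.out_eq (ConjClasses.mk v')).symm)
    refine ConjClasses.mk_eq_mk_iff_isConj.2 (isConj_iff.2 ⟨z⁻¹ * (y : G)⁻¹, ?_⟩)
    have hy' : (y : G) * (z * v * z⁻¹) * (y : G)⁻¹ =
        ((Quotient.out (ConjClasses.mk v') : Subgroup.centralizer ({z * w * z⁻¹} : Set G)) : G) :=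
      congrArg Subtype.val hy
    have hyc : (y : G) * (z * w * z⁻¹) = z * w * z⁻¹ * (y : G) :=
      Subgroup.mem_centralizer_singleton_iff.1 y.2
    show z⁻¹ * (y : G)⁻¹ * (z * w * z⁻¹ *
      ((Quotient.out (ConjClasses.mk v') : Subgroup.centralizer ({z * w * z⁻¹} : Set G)) : G)) *
        (z⁻¹ * (y : G)⁻¹)⁻¹ = g
    rw [← hy', ← mul_assoc (z * w * z⁻¹), ← mul_assoc (z * w * z⁻¹), ← hyc, hwv]
    group
  have hT : ∀ u : P, ((T u).ncard : ℝ) ≤ c ^ cyc (φ (u : G)) := by
    intro u
    have h1 : (T u).ncard ≤ (piClasses (Subgroup.centralizer ({(u : G)} : Set G)) π).ncard :=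
      Set.ncard_image_le (Set.toFinite _)
    refine le_trans (Nat.cast_le.2 h1) (hB _ _ (cycHom φ (u : G)) ?_)
    intro q hq hqp hdvd
    haveI := Fact.mk hqp
    obtain ⟨x, hx⟩ := exists_prime_orderOf_dvd_card' q hdvd
    obtain ⟨k, hk⟩ := P.2 u
    have hk' : (φ (u : G)) ^ (p ^ k) = 1 := by
      rw [← map_pow, ← SubgroupClass.coe_pow, hk, OneMemClass.coe_one, map_one]
    have hx1 : cycHom φ (u : G) (x : Subgroup.centralizer ({(u : G)} : Set G)) = 1 := x.2
    let xg : G := ((x : Subgroup.centralizer ({(u : G)} : Set G)) : G)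
    have hxo : orderOf xg = q := by
      rw [Subgroup.orderOf_coe, Subgroup.orderOf_coe, hx]
    have hpow : (φ xg) ^ (p ^ k) = 1 := by
      refine Equiv.ext fun a => ?_
      have h2 := Equiv.congr_fun hx1 (Quotient.mk'' a)
      rw [cycHom_mk, Equiv.Perm.one_apply] at h2
      obtain ⟨i, hi⟩ := (cyc_rel _ _ _).1 (Quotient.eq''.1 h2)
      have hn : ∀ n : ℕ, ((φ xg) ^ n) a = ((φ (u : G) ^ i) ^ n) a := by
        intro n
        induction n with
        | zero => rfl
        | succ n ihn =>
          rw [pow_succ', Equiv.Perm.mul_apply, ihn, ← zpow_natCast (φ (u : G) ^ i), ← zpow_mul]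
          show φ ((x : Subgroup.centralizer ({(u : G)} : Set G)) : G) _ = _
          rw [cent_comm φ (u : G) x.1 (i * n) a, ← hi, ← Equiv.Perm.mul_apply, ← zpow_add,
            ← zpow_natCast (φ (u : G) ^ i), ← zpow_mul]
          congr 2
          push_cast; ring
      rw [hn, ← zpow_natCast (φ (u : G) ^ i), ← zpow_mul, mul_comm, zpow_mul, zpow_natCast, hk',
        one_zpow]
    have hqpow : (φ xg) ^ q = 1 := by
      rw [← map_pow, ← hxo, pow_orderOf_eq_one, map_one]
    have hcop : Nat.Coprime q (p ^ k) :=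
      ((Nat.coprime_primes hqp hp).2 (fun h => hpπ (h ▸ hq))).pow_right k
    have hx0 : φ xg = 1 := by
      have := pow_gcd_eq_one.2 ⟨hqpow, hpow⟩
      rwa [hcop.gcd_eq_one, pow_one] at this
    refine hker q (Finset.mem_insert_of_mem hq) hqp ?_
    have : orderOf (⟨xg, hx0⟩ : φ.ker) = q := by
      rw [← Subgroup.orderOf_coe]; exact hxo
    exact this ▸ orderOf_dvd_natCard _
  have hinj : Function.Injective (φ.comp (P : Subgroup G).subtype) := by
    rw [injective_iff_map_eq_one]
    intro u hu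
    by_contra hne
    obtain ⟨k, hk⟩ := (IsPGroup.iff_orderOf.1 P.2) u
    have hk0 : k ≠ 0 := by
      rintro rfl
      exact hne (orderOf_eq_one_iff.1 (by simpa using hk))
    refine hker p (Finset.mem_insert_self p π) hp ?_
    have : p ∣ orderOf (⟨(u : G), hu⟩ : φ.ker) := by
      rw [← Subgroup.orderOf_coe, Subgroup.orderOf_coe u, hk]
      exact dvd_pow_self p hk0
    exact this.trans (orderOf_dvd_natCard _)
  let PX := (φ.comp (P : Subgroup G).subtype).range
  have hPX : IsPGroup p PX := P.2.of_surjective _ (MonoidHom.rangeRestrict_surjective _)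
  haveI : Fintype PX := Fintype.ofFinite PX
  calc ((piClasses G (insert p π)).ncard : ℝ)
      ≤ ((⋃ u ∈ (Finset.univ : Finset P), T u).ncard : ℝ) :=
        Nat.cast_le.2 (Set.ncard_le_ncard hcover (Set.toFinite _))
    _ ≤ ∑ u : P, ((T u).ncard : ℝ) := by
        exact_mod_cast Finset.set_ncard_biUnion_le Finset.univ T
    _ ≤ ∑ u : P, c ^ cyc (φ (u : G)) := Finset.sum_le_sum fun u _ => hT u
    _ = wt c PX := by
        rw [wt, finsum_eq_sum_of_fintype]
        refine Fintype.sum_equiv (MonoidHom.ofInjective hinj).toEquiv _ _ (fun u => ?_)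
        rfl
    _ ≤ c' ^ Nat.card X := hW X PX hPX

end Cfsg.Agent.ClassBound
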